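import Cfsg.Agent.Lib.Symplectic.Order

/-!
# Perfectness and simplicity of symplectic isometry groups
-/

set_option autoImplicit false

namespace Cfsg.Agent.Lib.Symplectic

open Module MulAction
open scoped LinearAlgebra.Projectivization Pointwise

variable {F : Type*} {V : Type*} [Field F] [AddCommGroup V] [Module F V]
variable {B : V →ₗ[F] V →ₗ[F] F} (hB : IsSympForm B)

/-- The image of a transvection in the abelianisation. -/
def transvClass (a : V) (c : F) : Abelianization (Isom B) := Abelianization.of (transv hB a c)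

theorem transvClass_smul (g : Isom B) (a : V) (c : F) :
    transvClass hB (g • a) c = transvClass hB a c := by
  rw [transvClass, ← transv_conj, map_mul, map_mul, map_inv, mul_right_comm, mul_inv_cancel,
    one_mul, transvClass]

theorem transvClass_eq {a b : V} (ha : a ≠ 0) (hb : b ≠ 0) (c : F) :
    transvClass hB a c = transvClass hB b c := by
  obtain ⟨g, rfl⟩ := exists_smul_eq_of_ne_zero hB ha hb
  exact (transvClass_smul hB g a c).symm

theorem transvClass_add (a : V) (c d : F) :
    transvClass hB a (c + d) = transvClass hB a c * transvClass hB a d := by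
  rw [transvClass, transvClass, transvClass, ← map_mul, transv_mul]

/-- Over a field with a scalar whose square is neither `0` nor `1`, every transvection is a
product of commutators. -/
theorem transvClass_eq_one_of_scalar {l : F} (h0 : l ≠ 0) (h1 : l ^ 2 ≠ 1) (a : V) (c : F) :
    transvClass hB a c = 1 := by
  by_cases ha : a = 0
  · rw [ha, transvClass, transv_vec_zero, map_one]
  obtain ⟨d, rfl⟩ : ∃ d, (l ^ 2 - 1) * d = c := ⟨(l ^ 2 - 1)⁻¹ * c, by
    rw [← mul_assoc, mul_inv_cancel₀ (sub_ne_zero.mpr h1), one_mul]⟩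
  have h := transvClass_eq hB (smul_ne_zero h0 ha) ha d
  rw [show transvClass hB (l • a) d = transvClass hB a (l ^ 2 * d) by
    rw [transvClass, transvClass, transv_vec_smul]] at h
  rw [show l ^ 2 * d = (l ^ 2 - 1) * d + d by ring, transvClass_add, mul_eq_right] at h
  exact h

variable [FiniteDimensional F V]

theorem exists_not_mem_of_finrank_lt (K : Submodule F V) (W : Submodule F V)
    (h : finrank F W < finrank F K) : ∃ x ∈ K, x ∉ W := by
  by_contra hc
  push Not at hc
  exact absurd (Submodule.finrank_mono (fun x hx => hc x hx)) (by omega)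

omit [FiniteDimensional F V] in
theorem mem_span_singleton_iff_smul {a x : V} :
    x ∈ Submodule.span F ({a} : Set V) ↔ ∃ t : F, x = t • a := by
  simp [Submodule.mem_span_singleton, eq_comm]

include hB in
/-- In dimension at least four there are two independent orthogonal vectors. -/
theorem exists_two_orth (h4 : 4 ≤ finrank F V) :
    ∃ a b : V, a ≠ 0 ∧ B a b = 0 ∧ ∀ t : F, b ≠ t • a := by
  obtain ⟨a, ha⟩ : ∃ a : V, a ≠ 0 := by
    have : Nontrivial V := Module.nontrivial_of_finrank_pos (R := F) (by omega)
    exact exists_ne 0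
  have hk := Module.Dual.finrank_ker_add_one_of_ne_zero (hB.apply_ne_zero ha)
  have hs : finrank F (Submodule.span F ({a} : Set V)) = 1 := finrank_span_singleton ha
  obtain ⟨b, hb, hb'⟩ := exists_not_mem_of_finrank_lt (LinearMap.ker (B a))
    (Submodule.span F ({a} : Set V)) (by omega)
  exact ⟨a, b, ha, hb, fun t ht => hb' (mem_span_singleton_iff_smul.mpr ⟨t, ht⟩)⟩

include hB in
/-- In dimension at least six there are three independent mutually orthogonal vectors. -/
theorem exists_three_orth (h6 : 6 ≤ finrank F V) :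
    ∃ a b d : V, a ≠ 0 ∧ B a b = 0 ∧ B a d = 0 ∧ B b d = 0 ∧ (∀ t : F, b ≠ t • a) ∧
      ∀ s t : F, d ≠ s • a + t • b := by
  obtain ⟨a, b, ha, hab, hb⟩ := exists_two_orth hB (by omega)
  have hb0 : b ≠ 0 := fun h => hb 0 (by simp [h])
  have hka := Module.Dual.finrank_ker_add_one_of_ne_zero (hB.apply_ne_zero ha)
  have hkb := Module.Dual.finrank_ker_add_one_of_ne_zero (hB.apply_ne_zero hb0)
  have hsum := Submodule.finrank_sup_add_finrank_inf_eq (LinearMap.ker (B a)) (LinearMap.ker (B b))
  have hle : finrank F ↥(LinearMap.ker (B a) ⊔ LinearMap.ker (B b)) ≤ finrank F V :=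
    Submodule.finrank_le _
  have hs : finrank F ↥(Submodule.span F ({a} : Set V) ⊔ Submodule.span F ({b} : Set V)) ≤ 2 := by
    refine (Submodule.finrank_add_le_finrank_add_finrank _ _).trans ?_
    rw [finrank_span_singleton ha, finrank_span_singleton hb0]
  obtain ⟨d, hd, hd'⟩ := exists_not_mem_of_finrank_lt (LinearMap.ker (B a) ⊓ LinearMap.ker (B b))
    (Submodule.span F ({a} : Set V) ⊔ Submodule.span F ({b} : Set V)) (by omega)
  refine ⟨a, b, d, ha, hab, hd.1, hd.2, hb, fun s t hst => hd' ?_⟩
  rw [hst]
  exact Submodule.mem_sup.mpr ⟨_, Submodule.smul_mem _ s (Submodule.mem_span_singleton_self a),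
    _, Submodule.smul_mem _ t (Submodule.mem_span_singleton_self b), rfl⟩

/-- In dimension at least six every transvection is a product of commutators. -/
theorem transvClass_eq_one_of_six (h6 : 6 ≤ finrank F V) (x : V) (c : F) :
    transvClass hB x c = 1 := by
  obtain ⟨a, b, d, ha, hab, had, hbd, hb, hd⟩ := exists_three_orth hB h6
  have hb0 : b ≠ 0 := fun h => hb 0 (by simp [h])
  have hd0 : d ≠ 0 := fun h => hd 0 0 (by simp [h])
  have h1 : a + b ≠ 0 := fun h => hb (-1) (by
    rw [neg_one_smul]; exact (neg_eq_of_add_eq_zero_right h).symm)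
  have h2 : a + d ≠ 0 := fun h => hd (-1) 0 (by
    rw [neg_one_smul, zero_smul, add_zero]; exact (neg_eq_of_add_eq_zero_right h).symm)
  have h3 : b + d ≠ 0 := fun h => hd 0 (-1) (by
    rw [neg_one_smul, zero_smul, zero_add]; exact (neg_eq_of_add_eq_zero_right h).symm)
  have h4 : a + b + d ≠ 0 := fun h => hd (-1) (-1) (by
    rw [neg_one_smul, neg_one_smul, ← neg_add]; exact (neg_eq_of_add_eq_zero_right h).symm)
  have key : transv hB (a + b + d) c * transv hB a c * transv hB b c * transv hB d c
      = transv hB (a + b) c * transv hB (a + d) c * transv hB (b + d) c := by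
    apply isom_ext; intro y
    simp only [mul_smul, transv_smul, map_add, map_smul, LinearMap.add_apply,
      LinearMap.smul_apply, smul_eq_mul, hB.self, hab, had, hbd, hB.swap b a, hB.swap d a,
      hB.swap d b, neg_zero, mul_zero, add_zero]
    module
  have key' := congrArg (fun g => Abelianization.of g) key
  simp only [map_mul] at key'
  change transvClass hB (a + b + d) c * transvClass hB a c * transvClass hB b c *
    transvClass hB d c = transvClass hB (a + b) c * transvClass hB (a + d) c *
    transvClass hB (b + d) c at key'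
  rw [transvClass_eq hB h4 ha, transvClass_eq hB hb0 ha, transvClass_eq hB hd0 ha,
    transvClass_eq hB h1 ha, transvClass_eq hB h2 ha, transvClass_eq hB h3 ha,
    mul_eq_left] at key'
  by_cases hx : x = 0
  · rw [hx, transvClass, transv_vec_zero, map_one]
  rw [transvClass_eq hB hx ha, key']

/-- In dimension at least four and characteristic not two every transvection is a product of
commutators. -/
theorem transvClass_eq_one_of_four (h4 : 4 ≤ finrank F V) (h2 : (2 : F) ≠ 0) (x : V) (c : F) :
    transvClass hB x c = 1 := by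
  obtain ⟨a, b, ha, hab, hb⟩ := exists_two_orth hB h4
  have hb0 : b ≠ 0 := fun h => hb 0 (by simp [h])
  have h1 : a + b ≠ 0 := fun h => hb (-1) (by
    rw [neg_one_smul]; exact (neg_eq_of_add_eq_zero_right h).symm)
  have h3 : a - b ≠ 0 := fun h => hb 1 (by rw [one_smul]; exact (sub_eq_zero.mp h).symm)
  have key : ∀ e : F, transv hB (a + b) e * transv hB (a - b) e
      = transv hB a (e + e) * transv hB b (e + e) := by
    intro e
    apply isom_ext; intro y
    simp only [mul_smul, transv_smul, map_add, map_sub, map_smul, LinearMap.add_apply,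
      LinearMap.sub_apply, LinearMap.smul_apply, smul_eq_mul, hB.self, hab, hB.swap b a,
      neg_zero, mul_zero, add_zero, sub_zero, zero_sub]
    module
  have dbl : ∀ e : F, transvClass hB a e * transvClass hB a e = 1 := by
    intro e
    have key' := congrArg (fun g => Abelianization.of g) (key e)
    simp only [map_mul] at key'
    change transvClass hB (a + b) e * transvClass hB (a - b) e =
      transvClass hB a (e + e) * transvClass hB b (e + e) at key'
    rw [transvClass_eq hB h1 ha, transvClass_eq hB h3 ha, transvClass_eq hB hb0 ha,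
      transvClass_add] at key'
    exact left_eq_mul.mp key'
  by_cases hx : x = 0
  · rw [hx, transvClass, transv_vec_zero, map_one]
  rw [transvClass_eq hB hx ha, show c = c / 2 + c / 2 by field_simp; ring, transvClass_add, dbl]

include hB in
/-- The symplectic group is perfect: any field in dimension at least six, characteristic not two
in dimension at least four, more than three elements always. -/
theorem commutator_isom_eq_top
    (h : 6 ≤ finrank F V ∨ (4 ≤ finrank F V ∧ (2 : F) ≠ 0) ∨ ∃ l : F, l ≠ 0 ∧ l ^ 2 ≠ 1) :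
    commutator (Isom B) = ⊤ := by
  rw [eq_top_iff, ← TG_eq_top hB, TG, Subgroup.closure_le]
  rintro _ ⟨⟨a, c⟩, rfl⟩
  show transv hB a c ∈ commutator (Isom B)
  rw [← Abelianization.ker_of, MonoidHom.mem_ker]
  rcases h with h | h | ⟨l, h0, h1⟩
  · exact transvClass_eq_one_of_six hB h a c
  · exact transvClass_eq_one_of_four hB h.1 h.2 a c
  · exact transvClass_eq_one_of_scalar hB h0 h1 a c

omit [FiniteDimensional F V] in
/-- A field with more than three elements has a scalar whose square is neither 0 nor 1. -/
theorem exists_scalar (h : ∃ s : Finset F, 4 ≤ s.card) : ∃ l : F, l ≠ 0 ∧ l ^ 2 ≠ 1 := by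
  classical
  obtain ⟨s, hs⟩ := h
  obtain ⟨l, -, hl⟩ : ∃ l ∈ s, l ∉ ({0, 1, -1} : Finset F) := by
    by_contra hc
    push Not at hc
    have := (Finset.card_le_card hc).trans Finset.card_le_three
    omega
  simp only [Finset.mem_insert, Finset.mem_singleton, not_or] at hl
  exact ⟨l, hl.1, fun h => (sq_eq_one_iff.mp h).elim hl.2.1 hl.2.2⟩

/-! ### The action on points -/

omit [FiniteDimensional F V] in
theorem smul_proj_mk (g : Isom B) {x : V} (hx : x ≠ 0) :
    g • Projectivization.mk F x hx = Projectivization.mk F (g • x) (isom_smul_ne_zero g hx) :=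
  Projectivization.smul_mk g hx

omit [FiniteDimensional F V] in
include hB in
theorem isPretransitive_proj : IsPretransitive (Isom B) (ℙ F V) := by
  refine ⟨fun p p' => ?_⟩
  induction p using Projectivization.ind with
  | h x hx =>
    induction p' using Projectivization.ind with
    | h y hy =>
      obtain ⟨g, hg⟩ := exists_smul_eq_of_ne_zero hB hx hy
      exact ⟨g, by simp [smul_proj_mk, hg]⟩

omit [FiniteDimensional F V] in
include hB in
/-- The stabiliser of a point is transitive on the points not perpendicular to it, and on the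
points perpendicular to it and distinct from it. -/
theorem exists_fix_proj {x y z : V} (hx : x ≠ 0) (hy : y ≠ 0) (hz : z ≠ 0)
    (h : (B x y ≠ 0 ∧ B x z ≠ 0) ∨ (B x y = 0 ∧ B x z = 0 ∧ (∀ t : F, y ≠ t • x) ∧
      ∀ t : F, z ≠ t • x)) :
    ∃ g : Isom B, g • Projectivization.mk F x hx = Projectivization.mk F x hx ∧
      g • Projectivization.mk F y hy = Projectivization.mk F z hz := by
  rcases h with ⟨hxy, hxz⟩ | ⟨hxy, hxz, hyx, hzx⟩
  · obtain ⟨g, -, hgx, hgy⟩ := exists_TG_fix hB hx
      (v := y) (v' := (B x y / B x z) • z) (by rw [map_smul, smul_eq_mul, div_mul_cancel₀ _ hxz])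
      (Or.inl hxy)
    refine ⟨g, by simp [smul_proj_mk, hgx], ?_⟩
    rw [smul_proj_mk]
    simp only [hgy]
    exact (Projectivization.mk_eq_mk_iff' F _ _ _ _).mpr ⟨_, rfl⟩
  · obtain ⟨g, -, hgx, hgy⟩ := exists_TG_fix hB hx
      (v := y) (v' := z) (hxy.trans hxz.symm) (Or.inr ⟨hyx, hzx⟩)
    exact ⟨g, by simp [smul_proj_mk, hgx], by simp [smul_proj_mk, hgy]⟩

omit [FiniteDimensional F V] in
theorem mk_ne_mk_iff {x y : V} (hx : x ≠ 0) (hy : y ≠ 0) :
    Projectivization.mk F y hy ≠ Projectivization.mk F x hx ↔ ∀ t : F, y ≠ t • x := by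
  rw [Ne, Projectivization.mk_eq_mk_iff']
  push Not
  exact forall_congr' fun t => ne_comm

include hB in
/-- The action of the symplectic group on points is primitive. -/
theorem isPreprimitive_proj : IsPreprimitive (Isom B) (ℙ F V) := by
  classical
  rcases subsingleton_or_nontrivial V with hV | hV
  · have : IsEmpty (ℙ F V) := Projectivization.isEmpty_of_subsingleton F V
    exact { exists_smul_eq := fun p => isEmptyElim p
            isTrivialBlock_of_isBlock := fun _ => Or.inl Set.subsingleton_of_subsingleton }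
  have := isPretransitive_proj hB
  obtain ⟨o, ho⟩ := exists_ne (0 : V)
  apply IsPreprimitive.of_isTrivialBlock_base (Projectivization.mk F o ho)
  intro Bl hoBl hBl
  by_cases hsub : Bl.Subsingleton
  · exact Or.inl hsub
  refine Or.inr (Set.eq_univ_iff_forall.mpr fun p => ?_)
  have move : ∀ {x y z : V} (hx : x ≠ 0) (hy : y ≠ 0) (hz : z ≠ 0),
      Projectivization.mk F x hx ∈ Bl → Projectivization.mk F y hy ∈ Bl →
      ((B x y ≠ 0 ∧ B x z ≠ 0) ∨ (B x y = 0 ∧ B x z = 0 ∧ (∀ t : F, y ≠ t • x) ∧
        ∀ t : F, z ≠ t • x)) → Projectivization.mk F z hz ∈ Bl := by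
    intro x y z hx hy hz hxB hyB h
    obtain ⟨g, hgx, hgy⟩ := exists_fix_proj hB hx hy hz h
    have hgB : g • Bl = Bl := by
      rcases hBl.smul_eq_or_disjoint g with hh | hh
      · exact hh
      · exact absurd hxB fun hh' =>
          Set.disjoint_left.mp hh ⟨_, hxB, hgx⟩ hh'
    rw [← hgy, ← hgB]
    exact Set.smul_mem_smul_set hyB
  obtain ⟨p', hp', hp'ne⟩ : ∃ p' ∈ Bl, p' ≠ Projectivization.mk F o ho := by
    by_contra hc
    push Not at hc
    exact hsub fun a ha b hb => (hc a ha).trans (hc b hb).symm
  induction p' using Projectivization.ind with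
  | h w hw =>
    induction p using Projectivization.ind with
    | h z hz =>
      have hwo := (mk_ne_mk_iff ho hw).mp hp'ne
      by_cases heq : Projectivization.mk F z hz = Projectivization.mk F o ho
      · rw [heq]; exact hoBl
      have hzo := (mk_ne_mk_iff ho hz).mp heq
      by_cases how : B o w ≠ 0
      · -- `Bl` contains every point not perpendicular to `o`
        by_cases hoz : B o z ≠ 0
        · exact move ho hw hz hoBl hp' (Or.inl ⟨how, hoz⟩)
        obtain ⟨x, hx⟩ := hB.exists_eq_one ho
        obtain ⟨y, hy⟩ := hB.exists_eq_one hz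
        obtain ⟨s, -, hs1, hs2⟩ := exists_both_ne_zero ⊤ (B o) (B z)
          ⟨x, trivial, by simp [hx]⟩ ⟨y, trivial, by simp [hy]⟩
        have hs : s ≠ 0 := fun h => by simp [h] at hs1
        have hsB := move ho hw hs hoBl hp' (Or.inl ⟨how, hs1⟩)
        exact move hs ho hz hsB hoBl
          (Or.inl ⟨mt hB.comm_eq_zero.mp hs1, mt hB.comm_eq_zero.mp hs2⟩)
      · -- `Bl` contains every point perpendicular to `o`
        push Not at how
        by_cases hoz : B o z = 0
        · exact move ho hw hz hoBl hp' (Or.inr ⟨how, hoz, hwo, hzo⟩)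
        have hk := Module.Dual.finrank_ker_add_one_of_ne_zero (hB.apply_ne_zero ho)
        have hkz := Module.Dual.finrank_ker_add_one_of_ne_zero (hB.apply_ne_zero hz)
        have hlt : finrank F (Submodule.span F ({o} : Set V)) <
            finrank F (LinearMap.ker (B o)) := by
          refine Submodule.finrank_lt_finrank_of_lt (lt_of_le_of_ne ?_ fun hh => ?_)
          · rw [Submodule.span_singleton_le_iff_mem]; exact hB.self o
          · have : w ∈ Submodule.span F ({o} : Set V) := hh ▸ (show w ∈ LinearMap.ker (B o) from how)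
            obtain ⟨t, ht⟩ := mem_span_singleton_iff_smul.mp this
            exact hwo t ht
        rw [finrank_span_singleton ho] at hlt
        have hsum := Submodule.finrank_sup_add_finrank_inf_eq (LinearMap.ker (B o))
          (LinearMap.ker (B z))
        have hle : finrank F ↥(LinearMap.ker (B o) ⊔ LinearMap.ker (B z)) ≤ finrank F V :=
          Submodule.finrank_le _
        have : (LinearMap.ker (B o) ⊓ LinearMap.ker (B z)) ≠ ⊥ := fun hh => by
          rw [hh, finrank_bot] at hsum
          omega
        obtain ⟨s, ⟨hs1, hs2⟩, hs⟩ := Submodule.exists_mem_ne_zero_of_ne_bot this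
        replace hs1 : B o s = 0 := hs1
        replace hs2 : B z s = 0 := hs2
        have hso : ∀ t : F, s ≠ t • o := fun t ht => by
          rw [ht, map_smul, smul_eq_mul, mul_eq_zero] at hs2
          rcases hs2 with h | h
          · rw [h, zero_smul] at ht; exact hs ht
          · exact hoz (hB.comm_eq_zero.mp h)
        have hsB := move ho hw hs hoBl hp' (Or.inr ⟨how, hs1, hwo, hso⟩)
        have hos : ∀ t : F, o ≠ t • s := fun t ht => by
          by_cases ht0 : t = 0
          · exact ho (by simp [ht, ht0])
          · exact hso t⁻¹ (by rw [ht, smul_smul, inv_mul_cancel₀ ht0, one_smul])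
        have hzs : ∀ t : F, z ≠ t • s := fun t ht => hoz (by simp [ht, hs1])
        exact move hs ho hz hsB hoBl
          (Or.inr ⟨hB.comm_eq_zero.mp hs1, hB.comm_eq_zero.mp hs2, hos, hzs⟩)

omit [FiniteDimensional F V] in
/-- The transvections with centre on the line of `v`. -/
def rootGroup (v : V) : Subgroup (Isom B) where
  carrier := Set.range (transv hB v)
  one_mem' := ⟨0, transv_zero hB v⟩
  mul_mem' := by rintro _ _ ⟨c, rfl⟩ ⟨d, rfl⟩; exact ⟨c + d, (transv_mul hB v c d).symm⟩
  inv_mem' := by rintro _ ⟨c, rfl⟩; exact ⟨-c, (transv_inv hB v c).symm⟩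

omit [FiniteDimensional F V] in
theorem rootGroup_smul {t : F} (ht : t ≠ 0) (v : V) : rootGroup hB (t • v) = rootGroup hB v := by
  ext g
  constructor
  · rintro ⟨c, rfl⟩; exact ⟨t ^ 2 * c, (transv_vec_smul hB v t c).symm⟩
  · rintro ⟨c, rfl⟩
    refine ⟨(t ^ 2)⁻¹ * c, ?_⟩
    rw [transv_vec_smul, ← mul_assoc, mul_inv_cancel₀ (pow_ne_zero _ ht), one_mul]

omit [FiniteDimensional F V] in
theorem rootGroup_conj (g : Isom B) (v : V) :
    rootGroup hB (g • v) = MulAut.conj g • rootGroup hB v := by
  ext h
  rw [Subgroup.mem_smul_pointwise_iff_exists]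
  constructor
  · rintro ⟨c, rfl⟩; exact ⟨_, ⟨c, rfl⟩, transv_conj hB g v c⟩
  · rintro ⟨_, ⟨c, rfl⟩, rfl⟩; exact ⟨c, (transv_conj hB g v c).symm⟩

/-- The Iwasawa structure on the symplectic group. -/
noncomputable def iwasawa : IwasawaStructure (Isom B) (ℙ F V) where
  T p := rootGroup hB p.rep
  is_comm p := ⟨⟨by
    rintro ⟨_, c, rfl⟩ ⟨_, d, rfl⟩
    exact Subtype.ext (by simp [transv_mul, add_comm c d])⟩⟩
  is_conj g p := by
    obtain ⟨t, ht⟩ : ∃ t : Fˣ, t • (g • p).rep = g • p.rep := by
      refine (Projectivization.mk_eq_mk_iff F _ _ (isom_smul_ne_zero g p.rep_nonzero)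
        (g • p).rep_nonzero).mp ?_
      rw [← smul_proj_mk g p.rep_nonzero, p.mk_rep, (g • p).mk_rep]
    rw [← rootGroup_conj, ← ht, Units.smul_def, rootGroup_smul hB t.ne_zero]
  is_generator := by
    rw [eq_top_iff, ← TG_eq_top hB, TG, Subgroup.closure_le]
    rintro _ ⟨⟨a, c⟩, rfl⟩
    by_cases ha : a = 0
    · simp only [ha, transv_vec_zero]; exact one_mem _
    obtain ⟨t, ht⟩ := Projectivization.exists_smul_eq_mk_rep F a ha
    refine Subgroup.mem_iSup_of_mem (Projectivization.mk F a ha) ?_
    rw [← ht, Units.smul_def, rootGroup_smul hB t.ne_zero]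
    exact ⟨c, rfl⟩

omit [FiniteDimensional F V] in
include hB in
theorem smul_eq_of_mem_center {g : Isom B} (hg : g ∈ Subgroup.center (Isom B)) (p : ℙ F V) :
    g • p = p := by
  induction p using Projectivization.ind with
  | h x hx =>
    rw [smul_proj_mk]
    rcases eq_scalar_of_mem_center hB hg with rfl | rfl
    · simp
    · exact (Projectivization.mk_eq_mk_iff' F _ _ _ _).mpr ⟨-1, by simp⟩

omit [FiniteDimensional F V] in
include hB in
theorem mem_center_of_forall_smul {g : Isom B} (h : ∀ p : ℙ F V, g • p = p) :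
    g ∈ Subgroup.center (Isom B) := by
  rw [Subgroup.mem_center_iff]
  intro k
  have line : ∀ x : V, ∃ t : F, g • x = t • x := fun x => by
    by_cases hx : x = 0
    · exact ⟨0, by simp [hx]⟩
    obtain ⟨t, ht⟩ := (Projectivization.mk_eq_mk_iff' F _ _ _ _).mp
      ((smul_proj_mk g hx).symm.trans (h _))
    exact ⟨t, ht.symm⟩
  apply isom_ext; intro x
  rw [mul_smul, mul_smul]
  obtain ⟨t, ht⟩ := line x
  obtain ⟨s, hs⟩ := line (k • x)
  rw [hs, ht, smul_comm k]
  by_cases hx : x = 0
  · simp [hx]
  obtain ⟨y, hy⟩ := hB.exists_eq_one hx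
  obtain ⟨l, hl⟩ := line y
  obtain ⟨r, hr⟩ := line (x + k • x)
  rw [smul_add, ht, hs] at hr
  by_cases hkx : ∃ a : F, k • x = a • x
  · obtain ⟨a, ha⟩ := hkx
    have hs' : g • (k • x) = t • (k • x) := by rw [ha, smul_comm g, ht, smul_comm]
    rw [← hs', hs]
  · push Not at hkx
    have h2 : (t - r) • x + (s - r) • (k • x) = 0 := by
      rw [sub_smul, sub_smul, sub_add_sub_comm, hr, ← smul_add, sub_self]
    have hsr : s = r := by
      by_contra hne
      refine hkx (-((s - r)⁻¹ * (t - r))) ?_
      have h3 := congrArg ((s - r)⁻¹ • ·) h2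
      simp only [smul_add, smul_zero, smul_smul, inv_mul_cancel₀ (sub_ne_zero.mpr hne),
        one_smul] at h3
      rw [neg_smul]
      exact (neg_eq_of_add_eq_zero_right h3).symm
    rw [hsr, sub_self, zero_smul, add_zero, smul_eq_zero] at h2
    rw [hsr, ← sub_eq_zero.mp (h2.resolve_right hx)]

include hB in
/-- The Iwasawa criterion applied to the action on points. -/
theorem isSimpleGroup_isom_quot_center (hn : 2 ≤ finrank F V)
    (hperf : commutator (Isom B) = ⊤) :
    IsSimpleGroup (Isom B ⧸ Subgroup.center (Isom B)) := by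
  have := isPreprimitive_proj hB
  have hnt : Nontrivial (Isom B ⧸ Subgroup.center (Isom B)) := by
    rw [QuotientGroup.nontrivial_iff]
    intro htop
    obtain ⟨x, hx⟩ : ∃ x : V, x ≠ 0 := by
      have : Nontrivial V := Module.nontrivial_of_finrank_pos (R := F) (by omega)
      exact exists_ne 0
    obtain ⟨y, hy⟩ := hB.exists_eq_one hx
    have := smul_eq_of_mem_center hB (g := transv hB y 1) (htop ▸ Subgroup.mem_top _)
      (Projectivization.mk F x hx)
    rw [smul_proj_mk, Projectivization.mk_eq_mk_iff'] at this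
    obtain ⟨t, ht⟩ := this
    have h1 := congrArg (fun z => B x z) ht
    simp [transv_smul, hy, hB.self] at h1
  apply IsSimpleGroup.mk
  intro N hN
  let π := QuotientGroup.mk' (Subgroup.center (Isom B))
  let M := N.comap π
  have hM : M.Normal := hN.comap π
  by_cases hfix : fixedPoints M (ℙ F V) = Set.univ
  · left
    rw [eq_bot_iff]
    intro n hn
    obtain ⟨g, rfl⟩ := QuotientGroup.mk_surjective n
    rw [Subgroup.mem_bot, QuotientGroup.eq_one_iff]
    exact mem_center_of_forall_smul hB fun p => (Set.eq_univ_iff_forall.mp hfix p) ⟨g, hn⟩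
  · right
    have h := (iwasawa hB).commutator_le M hfix
    rw [hperf, top_le_iff] at h
    rw [eq_top_iff]
    intro n _
    obtain ⟨g, rfl⟩ := QuotientGroup.mk_surjective n
    exact (h ▸ Subgroup.mem_top g : g ∈ M)

end Cfsg.Agent.Lib.Symplectic
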