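import Cfsg.Prelude.Def_Classical
import Cfsg.Prelude.Def_ClassicalGeometry
import Cfsg.Agent.Lib.Symplectic.Simple

/-!
# `Matrix.symplecticGroup (Fin m) F` and `Cfsg.PSp`

The bridge `spEquiv` to the isometry group of `stdForm`, and the consequences in matrix language.
-/

set_option autoImplicit false

namespace Cfsg.Agent.Lib.Symplectic

open Matrix Module

variable {F : Type*} [Field F] {m : ℕ}

theorem stdForm_eq_dot (x y : Fin m ⊕ Fin m → F) :
    stdForm m F x y = x ⬝ᵥ (J (Fin m) F *ᵥ y) := by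
  rw [stdForm_apply, dotProduct, Fintype.sum_sum_type, ← Finset.sum_add_distrib]
  refine Finset.sum_congr rfl fun i _ => ?_
  have h1 : (J (Fin m) F *ᵥ y) (Sum.inl i) = -y (Sum.inr i) := by
    simp [J, Matrix.mulVec, dotProduct, Fintype.sum_sum_type, Matrix.one_apply]
  have h2 : (J (Fin m) F *ᵥ y) (Sum.inr i) = y (Sum.inl i) := by
    simp [J, Matrix.mulVec, dotProduct, Fintype.sum_sum_type, Matrix.one_apply]
  rw [h1, h2]
  ring

theorem stdForm_eq_sympForm (x y : Fin m ⊕ Fin m → F) :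
    stdForm m F x y = Cfsg.sympForm m F x y := stdForm_eq_dot x y

theorem finrank_std (m : ℕ) (F : Type*) [Field F] :
    finrank F (Fin m ⊕ Fin m → F) = 2 * m := by
  rw [Module.finrank_pi]; simp; ring

theorem mulVec_form (A : Matrix (Fin m ⊕ Fin m) (Fin m ⊕ Fin m) F) (x y : Fin m ⊕ Fin m → F) :
    stdForm m F (A *ᵥ x) (A *ᵥ y) = x ⬝ᵥ ((Aᵀ * J (Fin m) F * A) *ᵥ y) := by
  rw [stdForm_eq_dot, ← Matrix.mulVec_mulVec, ← Matrix.mulVec_mulVec,
    Matrix.dotProduct_mulVec x Aᵀ, Matrix.vecMul_transpose]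

/-- A matrix is symplectic iff it preserves the standard form. -/
theorem mem_sp_iff {A : Matrix (Fin m ⊕ Fin m) (Fin m ⊕ Fin m) F} :
    A ∈ symplecticGroup (Fin m) F ↔
      ∀ x y, stdForm m F (A *ᵥ x) (A *ᵥ y) = stdForm m F x y := by
  rw [SymplecticGroup.mem_iff']
  constructor
  · intro h x y
    rw [mulVec_form, h, stdForm_eq_dot]
  · intro h
    refine Matrix.ext fun i j => ?_
    have := h (Pi.single i 1) (Pi.single j 1)
    rw [mulVec_form, stdForm_eq_dot] at this
    simpa [Matrix.mulVec_single_one, single_one_dotProduct] using this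

/-- The linear equivalence of a symplectic matrix. -/
def spLE (A : symplecticGroup (Fin m) F) : (Fin m ⊕ Fin m → F) ≃ₗ[F] (Fin m ⊕ Fin m → F) :=
  LinearEquiv.ofLinearMap (Matrix.mulVecLin (A : Matrix (Fin m ⊕ Fin m) (Fin m ⊕ Fin m) F))
    (Matrix.mulVecLin ((A⁻¹ : symplecticGroup (Fin m) F) : Matrix (Fin m ⊕ Fin m) (Fin m ⊕ Fin m) F))
    (by rw [← Matrix.mulVecLin_mul, ← Submonoid.coe_mul, mul_inv_cancel, Submonoid.coe_one,
      Matrix.mulVecLin_one])
    (by rw [← Matrix.mulVecLin_mul, ← Submonoid.coe_mul, inv_mul_cancel, Submonoid.coe_one,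
      Matrix.mulVecLin_one])

theorem spLE_apply (A : symplecticGroup (Fin m) F) (x : Fin m ⊕ Fin m → F) :
    spLE A x = (A : Matrix (Fin m ⊕ Fin m) (Fin m ⊕ Fin m) F) *ᵥ x := rfl

theorem spLE_mem (A : symplecticGroup (Fin m) F) : spLE A ∈ Isom (stdForm m F) := fun x y => by
  rw [spLE_apply, spLE_apply]
  exact (mem_sp_iff (A := (A : Matrix (Fin m ⊕ Fin m) (Fin m ⊕ Fin m) F))).mp A.2 x y

/-- The symplectic matrix group is the isometry group of the standard form. -/
def spEquiv (m : ℕ) (F : Type*) [Field F] :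
    symplecticGroup (Fin m) F ≃* Isom (stdForm m F) where
  toFun A := ⟨spLE A, spLE_mem A⟩
  invFun g := ⟨LinearMap.toMatrix' (g : (Fin m ⊕ Fin m → F) ≃ₗ[F] _).toLinearMap,
    mem_sp_iff.mpr fun x y => by
      rw [LinearMap.toMatrix'_mulVec, LinearMap.toMatrix'_mulVec]
      exact g.2 x y⟩
  left_inv A := Subtype.ext (show LinearMap.toMatrix' (Matrix.toLin' (A : Matrix (Fin m ⊕ Fin m) (Fin m ⊕ Fin m) F)) = (A : Matrix (Fin m ⊕ Fin m) (Fin m ⊕ Fin m) F) from LinearMap.toMatrix'_toLin' _)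
  right_inv g := by
    apply isom_ext; intro x
    exact LinearMap.toMatrix'_mulVec _ x
  map_mul' A C := by
    apply isom_ext; intro x
    exact (Matrix.mulVec_mulVec x (A : Matrix (Fin m ⊕ Fin m) (Fin m ⊕ Fin m) F) (C : Matrix (Fin m ⊕ Fin m) (Fin m ⊕ Fin m) F)).symm

@[simp]
theorem spEquiv_smul (A : symplecticGroup (Fin m) F) (x : Fin m ⊕ Fin m → F) :
    spEquiv m F A • x = (A : Matrix (Fin m ⊕ Fin m) (Fin m ⊕ Fin m) F) *ᵥ x := rfl

@[simp]
theorem spEquiv_symm_mulVec (g : Isom (stdForm m F)) (x : Fin m ⊕ Fin m → F) :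
    ((spEquiv m F).symm g : Matrix (Fin m ⊕ Fin m) (Fin m ⊕ Fin m) F) *ᵥ x = g • x := by
  rw [← spEquiv_smul, MulEquiv.apply_symm_apply]

/-- Any isometry group of a nondegenerate alternating form is a symplectic matrix group. -/
theorem nonempty_isom_mulEquiv_sp {V : Type*} [AddCommGroup V] [Module F V]
    [FiniteDimensional F V] {B : V →ₗ[F] V →ₗ[F] F} (hB : IsSympForm B)
    (h : finrank F V = 2 * m) : Nonempty (Isom B ≃* symplecticGroup (Fin m) F) := by
  obtain ⟨e⟩ := nonempty_isom_mulEquiv hB (isSympForm_stdForm m F) (by rw [h, finrank_std])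
  exact ⟨e.trans (spEquiv m F).symm⟩

theorem spEquiv_symm_transv (v : Fin m ⊕ Fin m → F) (c : F) :
    ((spEquiv m F).symm (transv (isSympForm_stdForm m F) v c) :
      Matrix (Fin m ⊕ Fin m) (Fin m ⊕ Fin m) F) = Cfsg.sympTransvection m v c := by
  refine Matrix.mulVec_injective (funext fun x => ?_)
  show _ *ᵥ x = _ *ᵥ x
  rw [spEquiv_symm_mulVec, transv_smul, Cfsg.sympTransvection, Matrix.add_mulVec,
    Matrix.one_mulVec, Matrix.smul_mulVec, stdForm_eq_dot]
  congr 1
  funext i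
  simp only [Pi.smul_apply, Matrix.vecMulVec, Matrix.mulVec, dotProduct, smul_eq_mul,
    Matrix.of_apply, Finset.mul_sum, Finset.sum_mul]
  exact Finset.sum_congr rfl fun j _ => Finset.sum_congr rfl fun k _ => by ring

theorem sympTransvection_mem (v : Fin m ⊕ Fin m → F) (c : F) :
    Cfsg.sympTransvection m v c ∈ symplecticGroup (Fin m) F := by
  rw [← spEquiv_symm_transv]; exact Subtype.coe_prop _

/-- The subgroup of `Sp` generated by symplectic transvections. -/
theorem closure_sympTransvection_eq_top :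
    Subgroup.closure {A : symplecticGroup (Fin m) F | ∃ (w : Fin m ⊕ Fin m → F) (c : F),
      (A : Matrix (Fin m ⊕ Fin m) (Fin m ⊕ Fin m) F) = Cfsg.sympTransvection m w c} = ⊤ := by
  have h := congrArg (Subgroup.map (spEquiv m F).symm.toMonoidHom)
    (TG_eq_top (isSympForm_stdForm m F))
  rw [TG, MonoidHom.map_closure, Subgroup.map_top_of_surjective _ (spEquiv m F).symm.surjective]
    at h
  rw [eq_top_iff, ← h]
  refine Subgroup.closure_mono ?_
  rintro _ ⟨_, ⟨⟨w, c⟩, rfl⟩, rfl⟩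
  exact ⟨w, c, spEquiv_symm_transv w c⟩

theorem exists_sp_mulVec_eq {x y : Fin m ⊕ Fin m → F} (hx : x ≠ 0) (hy : y ≠ 0) :
    ∃ A : symplecticGroup (Fin m) F,
      (A : Matrix (Fin m ⊕ Fin m) (Fin m ⊕ Fin m) F) *ᵥ x = y := by
  obtain ⟨g, hg⟩ := exists_smul_eq_of_ne_zero (isSympForm_stdForm m F) hx hy
  exact ⟨(spEquiv m F).symm g, by rw [spEquiv_symm_mulVec, hg]⟩

theorem exists_sp_mulVec_pair {u v u' v' : Fin m ⊕ Fin m → F}
    (h : Cfsg.sympForm m F u v = 1) (h' : Cfsg.sympForm m F u' v' = 1) :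
    ∃ A : symplecticGroup (Fin m) F,
      (A : Matrix (Fin m ⊕ Fin m) (Fin m ⊕ Fin m) F) *ᵥ u = u' ∧
      (A : Matrix (Fin m ⊕ Fin m) (Fin m ⊕ Fin m) F) *ᵥ v = v' := by
  rw [← stdForm_eq_sympForm] at h h'
  obtain ⟨g, -, hu, hv⟩ := exists_TG_hyperbolic (isSympForm_stdForm m F) h h'
  exact ⟨(spEquiv m F).symm g, by rw [spEquiv_symm_mulVec, hu], by rw [spEquiv_symm_mulVec, hv]⟩

/-- `|Sp_2m(q)|`. -/
theorem card_sp [Finite F] {q : ℕ} (hq : Nat.card F = q) (m : ℕ) :
    Nat.card (symplecticGroup (Fin m) F) =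
      q ^ (m ^ 2) * ∏ i ∈ Finset.range m, (q ^ (2 * (i + 1)) - 1) := by
  rw [Nat.card_congr (spEquiv m F).toEquiv]
  exact card_isom (isSympForm_stdForm m F) hq (finrank_std m F)

theorem map_center_eq {G H : Type*} [Group G] [Group H] (e : G ≃* H) :
    (Subgroup.center G).map e.toMonoidHom = Subgroup.center H := by
  ext h
  rw [Subgroup.mem_map_equiv, Subgroup.mem_center_iff, Subgroup.mem_center_iff]
  constructor
  · intro hh g
    have := congrArg e (hh (e.symm g))
    simpa using this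
  · intro hh g
    apply e.injective
    simpa using hh (e g)

/-- The centre of `Sp_2m(q)` has `gcd(2, q-1)` elements. -/
theorem card_center_sp [Finite F] {q : ℕ} (hq : Nat.card F = q) {m : ℕ} (hm : 1 ≤ m) :
    Nat.card (Subgroup.center (symplecticGroup (Fin m) F)) = Nat.gcd 2 (q - 1) := by
  have : Nonempty (Fin m ⊕ Fin m) := ⟨Sum.inl ⟨0, hm⟩⟩
  rw [← card_center_isom (isSympForm_stdForm m F) hq, ← map_center_eq (spEquiv m F)]
  exact Nat.card_congr
    ((Subgroup.center _).equivMapOfInjective _ (spEquiv m F).injective).toEquiv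

/-- A symplectic matrix is central iff it is `1` or `-1`. -/
theorem mem_center_sp_iff {A : symplecticGroup (Fin m) F} :
    A ∈ Subgroup.center (symplecticGroup (Fin m) F) ↔
      (A : Matrix (Fin m ⊕ Fin m) (Fin m ⊕ Fin m) F) = 1 ∨
      (A : Matrix (Fin m ⊕ Fin m) (Fin m ⊕ Fin m) F) = -1 := by
  have h : A ∈ Subgroup.center (symplecticGroup (Fin m) F) ↔
      spEquiv m F A ∈ ({1, negIsom (stdForm m F)} : Set (Isom (stdForm m F))) := by
    rw [← center_isom (isSympForm_stdForm m F), SetLike.mem_coe, ← map_center_eq (spEquiv m F),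
      Subgroup.mem_map_equiv, MulEquiv.symm_apply_apply]
  rw [h, Set.mem_insert_iff, Set.mem_singleton_iff]
  refine or_congr ?_ ?_
  · rw [EmbeddingLike.map_eq_one_iff]
    exact Subtype.ext_iff
  · constructor
    · intro hh
      refine Matrix.mulVec_injective (funext fun x => ?_)
      show _ *ᵥ x = _ *ᵥ x
      rw [← spEquiv_smul, hh, negIsom_smul, Matrix.neg_mulVec, Matrix.one_mulVec]
    · intro hh
      apply isom_ext; intro x
      rw [spEquiv_smul, hh, negIsom_smul, Matrix.neg_mulVec, Matrix.one_mulVec]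

/-- `gcd(2, q-1) * |PSp_2m(q)| = |Sp_2m(q)|`. -/
theorem card_psp [Finite F] {q : ℕ} (hq : Nat.card F = q) {m : ℕ} (hm : 1 ≤ m) :
    Nat.gcd 2 (q - 1) * Nat.card (Cfsg.PSp m F) =
      q ^ (m ^ 2) * ∏ i ∈ Finset.range m, (q ^ (2 * (i + 1)) - 1) := by
  rw [← card_center_sp hq hm, ← card_sp hq m,
    Subgroup.card_eq_card_quotient_mul_card_subgroup
      (Subgroup.center (symplecticGroup (Fin m) F)), mul_comm]

theorem perfect_condition {m : ℕ} (h : 3 ≤ m ∨ (m = 2 ∧ ∃ s : Finset F, 3 ≤ s.card) ∨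
      ∃ s : Finset F, 4 ≤ s.card) :
    6 ≤ finrank F (Fin m ⊕ Fin m → F) ∨
      (4 ≤ finrank F (Fin m ⊕ Fin m → F) ∧ (2 : F) ≠ 0) ∨ ∃ l : F, l ≠ 0 ∧ l ^ 2 ≠ 1 := by
  rw [finrank_std]
  rcases h with h | ⟨h, s, hs⟩ | h
  · exact Or.inl (by omega)
  · by_cases h2 : (2 : F) = 0
    · refine Or.inr (Or.inr ?_)
      classical
      obtain ⟨l, -, hl⟩ : ∃ l ∈ s, l ∉ ({0, 1} : Finset F) := by
        by_contra hc
        push Not at hc
        have := (Finset.card_le_card hc).trans Finset.card_le_two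
        omega
      simp only [Finset.mem_insert, Finset.mem_singleton, not_or] at hl
      refine ⟨l, hl.1, fun hsq => (sq_eq_one_iff.mp hsq).elim hl.2 fun hm1 => hl.2 ?_⟩
      rw [hm1]; linear_combination -h2
    · exact Or.inr (Or.inl ⟨by omega, h2⟩)
  · exact Or.inr (Or.inr (exists_scalar h))

/-- `Sp_2m(F)` is perfect, apart from `Sp_2(2)`, `Sp_2(3)` and `Sp_4(2)`. -/
theorem commutator_sp_eq_top {m : ℕ} (h : 3 ≤ m ∨ (m = 2 ∧ ∃ s : Finset F, 3 ≤ s.card) ∨
      ∃ s : Finset F, 4 ≤ s.card) :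
    commutator (symplecticGroup (Fin m) F) = ⊤ := by
  have h1 := commutator_isom_eq_top (isSympForm_stdForm m F) (perfect_condition h)
  rw [eq_top_iff]
  intro A _
  have h2 : spEquiv m F A ∈ (commutator (symplecticGroup (Fin m) F)).map
      (spEquiv m F).toMonoidHom := by
    rw [commutator_def, Subgroup.map_commutator,
      Subgroup.map_top_of_surjective _ (spEquiv m F).surjective, ← commutator_def, h1]
    exact Subgroup.mem_top _
  rwa [Subgroup.mem_map_equiv, MulEquiv.symm_apply_apply] at h2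

/-- The isomorphism between `PSp` and the projective isometry group of the standard form. -/
def pspEquiv (m : ℕ) (F : Type*) [Field F] :
    Cfsg.PSp m F ≃* Isom (stdForm m F) ⧸ Subgroup.center (Isom (stdForm m F)) :=
  QuotientGroup.congr _ _ (spEquiv m F) (map_center_eq (spEquiv m F))

/-- `PSp_2m(F)` is simple, apart from `PSp_2(2)`, `PSp_2(3)` and `PSp_4(2)`. -/
theorem isSimpleGroup_psp {m : ℕ} (hm : 1 ≤ m) (h : 3 ≤ m ∨ (m = 2 ∧ ∃ s : Finset F, 3 ≤ s.card) ∨
      ∃ s : Finset F, 4 ≤ s.card) :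
    IsSimpleGroup (Cfsg.PSp m F) := by
  have := isSimpleGroup_isom_quot_center (isSympForm_stdForm m F)
    (by rw [finrank_std]; omega)
    (commutator_isom_eq_top (isSympForm_stdForm m F) (perfect_condition h))
  exact (pspEquiv m F).isSimpleGroup

end Cfsg.Agent.Lib.Symplectic
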