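import Cfsg.Agent.Lib.Symplectic.Form

/-!
# Symplectic bases, orders and centres of symplectic isometry groups
-/

set_option autoImplicit false

namespace Cfsg.Agent.Lib.Symplectic

open Module

universe u

variable {F : Type*} {V : Type*} [Field F] [AddCommGroup V] [Module F V]
variable {B : V →ₗ[F] V →ₗ[F] F}

/-- The standard alternating form `(x, y) ↦ Σᵢ (x_(inr i) y_(inl i) - x_(inl i) y_(inr i))`. -/
def stdForm (m : ℕ) (F : Type*) [Field F] :
    (Fin m ⊕ Fin m → F) →ₗ[F] (Fin m ⊕ Fin m → F) →ₗ[F] F :=
  LinearMap.mk₂ F (fun x y => ∑ i, (x (Sum.inr i) * y (Sum.inl i) - x (Sum.inl i) * y (Sum.inr i)))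
    (fun x x' y => by
      simp only [Pi.add_apply, ← Finset.sum_add_distrib]
      exact Finset.sum_congr rfl fun i _ => by ring)
    (fun c x y => by
      simp only [Pi.smul_apply, smul_eq_mul, Finset.mul_sum]
      exact Finset.sum_congr rfl fun i _ => by ring)
    (fun x y y' => by
      simp only [Pi.add_apply, ← Finset.sum_add_distrib]
      exact Finset.sum_congr rfl fun i _ => by ring)
    (fun c x y => by
      simp only [Pi.smul_apply, smul_eq_mul, Finset.mul_sum]
      exact Finset.sum_congr rfl fun i _ => by ring)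

theorem stdForm_apply (m : ℕ) (x y : Fin m ⊕ Fin m → F) :
    stdForm m F x y =
      ∑ i, (x (Sum.inr i) * y (Sum.inl i) - x (Sum.inl i) * y (Sum.inr i)) := rfl

theorem isSympForm_stdForm (m : ℕ) (F : Type*) [Field F] : IsSympForm (stdForm m F) where
  self x := by
    rw [stdForm_apply]
    exact Finset.sum_eq_zero fun i _ => by ring
  nondeg x hx := by
    funext j
    cases j with
    | inl i =>
      have h := hx (Pi.single (Sum.inr i) 1)
      rw [stdForm_apply, Finset.sum_eq_single i] at h
      · simpa using h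
      · intro b _ hb; simp [hb]
      · simp
    | inr i =>
      have h := hx (Pi.single (Sum.inl i) 1)
      rw [stdForm_apply, Finset.sum_eq_single i] at h
      · simpa using h
      · intro b _ hb; simp [hb]
      · simp

/-- Prepend a pair of coordinates. -/
def coordSplit (k : ℕ) (F : Type*) [Field F] :
    (Fin (k + 1) ⊕ Fin (k + 1) → F) ≃ₗ[F] (F × F) × (Fin k ⊕ Fin k → F) where
  toFun x := ((x (Sum.inr 0), x (Sum.inl 0)),
    Sum.elim (fun i => x (Sum.inl i.succ)) (fun i => x (Sum.inr i.succ)))
  map_add' x y := by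
    refine Prod.ext rfl ?_
    funext j; cases j <;> rfl
  map_smul' c x := by
    refine Prod.ext rfl ?_
    funext j; cases j <;> rfl
  invFun p := Sum.elim (Fin.cases p.1.2 fun i => p.2 (Sum.inl i))
    (Fin.cases p.1.1 fun i => p.2 (Sum.inr i))
  left_inv x := by
    funext j
    rcases j with i | i <;> induction i using Fin.cases <;> simp
  right_inv p := by
    obtain ⟨⟨a, b⟩, w⟩ := p
    refine Prod.ext (by simp) ?_
    funext j; cases j <;> simp

theorem stdForm_coordSplit (k : ℕ) (x y : Fin (k + 1) ⊕ Fin (k + 1) → F) :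
    stdForm (k + 1) F x y =
      (coordSplit k F x).1.1 * (coordSplit k F y).1.2
      - (coordSplit k F x).1.2 * (coordSplit k F y).1.1
      + stdForm k F (coordSplit k F x).2 (coordSplit k F y).2 := by
  simp only [stdForm_apply, coordSplit, LinearEquiv.coe_mk, Fin.sum_univ_succ]
  rfl

/-- Every nondegenerate alternating form is isometric to the standard one. -/
theorem exists_std {V : Type u} [AddCommGroup V] [Module F V] [FiniteDimensional F V]
    {B : V →ₗ[F] V →ₗ[F] F} (hB : IsSympForm B) :
    ∃ m : ℕ, finrank F V = 2 * m ∧ ∃ e : (Fin m ⊕ Fin m → F) ≃ₗ[F] V,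
      ∀ x y, B (e x) (e y) = stdForm m F x y := by
  suffices H : ∀ (n : ℕ) (V : Type u) [AddCommGroup V] [Module F V] [FiniteDimensional F V]
      (B : V →ₗ[F] V →ₗ[F] F) (_ : IsSympForm B), finrank F V = n →
      ∃ m : ℕ, n = 2 * m ∧ ∃ e : (Fin m ⊕ Fin m → F) ≃ₗ[F] V,
        ∀ x y, B (e x) (e y) = stdForm m F x y from H _ V B hB rfl
  intro n
  induction n using Nat.strong_induction_on with
  | _ n ih =>
    intro V _ _ _ B hB hn
    rcases Nat.eq_zero_or_pos n with h0 | h0
    · have : Subsingleton V := Module.finrank_zero_iff.mp (hn.trans h0)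
      refine ⟨0, h0, LinearEquiv.ofLinearMap 0 0 (LinearMap.ext fun x => Subsingleton.elim _ _)
        (LinearMap.ext fun x => funext fun j => j.elim Fin.elim0 Fin.elim0), fun x y => ?_⟩
      simp [stdForm_apply]
    obtain ⟨u, hu⟩ : ∃ u : V, u ≠ 0 := by
      have : Nontrivial V := Module.nontrivial_of_finrank_pos (hn ▸ h0)
      exact exists_ne 0
    obtain ⟨v, huv⟩ := hB.exists_eq_one hu
    have hfr := finrank_pairPerp hB huv
    obtain ⟨k, hk, e, he⟩ := ih _ (by omega) _ _ (restr_pairPerp hB huv) rfl
    refine ⟨k + 1, by omega, (coordSplit k F).trans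
      ((LinearEquiv.prodCongr (LinearEquiv.refl F (F × F)) e).trans (pairSplit hB huv).symm),
      fun x y => ?_⟩
    have hsplit : ∀ z, ((coordSplit k F).trans
        ((LinearEquiv.prodCongr (LinearEquiv.refl F (F × F)) e).trans (pairSplit hB huv).symm)) z
        = (coordSplit k F z).1.1 • u + (coordSplit k F z).1.2 • v
          + (e (coordSplit k F z).2 : V) := fun z => rfl
    rw [hsplit, hsplit, stdForm_coordSplit, ← he, restr_apply]
    simp only [map_add, map_smul, LinearMap.add_apply, LinearMap.smul_apply, smul_eq_mul,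
      hB.self, huv, hB.swap v u, perp_apply_left hB, (mem_pairPerp.mp (Subtype.coe_prop _))]
    ring

/-- The dimension of a space with a nondegenerate alternating form is even. -/
theorem even_finrank [FiniteDimensional F V] (hB : IsSympForm B) : Even (finrank F V) := by
  obtain ⟨m, hm, -⟩ := exists_std hB
  exact ⟨m, by omega⟩

/-- Forms in the same dimension are isometric. -/
theorem exists_isometry {W : Type*} [AddCommGroup W] [Module F W] [FiniteDimensional F V]
    [FiniteDimensional F W] {B' : W →ₗ[F] W →ₗ[F] F} (hB : IsSympForm B) (hB' : IsSympForm B')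
    (h : finrank F V = finrank F W) : ∃ e : V ≃ₗ[F] W, ∀ x y, B' (e x) (e y) = B x y := by
  obtain ⟨m, hm, e, he⟩ := exists_std hB
  obtain ⟨m', hm', e', he'⟩ := exists_std hB'
  obtain rfl : m = m' := by omega
  refine ⟨e.symm.trans e', fun x y => ?_⟩
  rw [LinearEquiv.trans_apply, LinearEquiv.trans_apply, he', ← he, e.apply_symm_apply,
    e.apply_symm_apply]

/-- Isometry groups of forms in the same dimension are isomorphic. -/
theorem nonempty_isom_mulEquiv {W : Type*} [AddCommGroup W] [Module F W] [FiniteDimensional F V]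
    [FiniteDimensional F W] {B' : W →ₗ[F] W →ₗ[F] F} (hB : IsSympForm B) (hB' : IsSympForm B')
    (h : finrank F V = finrank F W) : Nonempty (Isom B ≃* Isom B') := by
  obtain ⟨e, he⟩ := exists_isometry hB hB' h
  exact ⟨isomCongr e he⟩

/-! ### Orders -/

variable [Finite F] [FiniteDimensional F V] {q : ℕ}

omit [Finite F] [FiniteDimensional F V] in
theorem fiber_equiv (hB : IsSympForm B) {u : V} (hu : u ≠ 0) :
    Nat.card {v : V // B u v = 1} = Nat.card (LinearMap.ker (B u)) := by
  obtain ⟨y, hy⟩ := hB.exists_eq_one hu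
  exact Nat.card_congr
    { toFun := fun v => ⟨v.1 - y, by simp [v.2, hy]⟩
      invFun := fun w => ⟨w.1 + y, by
        rw [map_add, LinearMap.mem_ker.mp w.2, hy, zero_add]⟩
      left_inv := fun v => by simp
      right_inv := fun w => by simp }

theorem card_hyperbolic_pairs (hB : IsSympForm B) (hq : Nat.card F = q) :
    Nat.card {p : V × V // B p.1 p.2 = 1} =
      (q ^ finrank F V - 1) * q ^ (finrank F V - 1) := by
  have : Finite V := Module.finite_of_finite F
  have : Fintype V := Fintype.ofFinite V
  let e : {p : V × V // B p.1 p.2 = 1} ≃ Σ u : {u : V // u ≠ 0}, {v : V // B u v = 1} :=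
    { toFun := fun p => ⟨⟨p.1.1, fun h => by simpa [h] using p.2⟩, ⟨p.1.2, p.2⟩⟩
      invFun := fun s => ⟨(s.1.1, s.2.1), s.2.2⟩
      left_inv := fun p => rfl
      right_inv := fun s => rfl }
  classical
  rw [Nat.card_congr e, Nat.card_sigma]
  have hfib : ∀ u : {u : V // u ≠ 0},
      Nat.card {v : V // B u v = 1} = q ^ (finrank F V - 1) := by
    intro u
    rw [fiber_equiv hB u.2, Module.natCard_eq_pow_finrank (K := F), hq]
    congr 1
    have := Module.Dual.finrank_ker_add_one_of_ne_zero (hB.apply_ne_zero u.2)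
    omega
  rw [Finset.sum_congr rfl fun u _ => hfib u, Finset.sum_const, smul_eq_mul, Finset.card_univ,
    ← Nat.card_eq_fintype_card]
  congr 1
  have h1 : Nat.card V = q ^ finrank F V := hq ▸ Module.natCard_eq_pow_finrank
  rw [← h1, Nat.card_eq_fintype_card, Nat.card_eq_fintype_card, Fintype.card_subtype_compl,
    Fintype.card_subtype_eq]

theorem card_isom_step (hB : IsSympForm B) {u v : V} (huv : B u v = 1) (hq : Nat.card F = q) :
    Nat.card (Isom B) = (q ^ finrank F V - 1) * q ^ (finrank F V - 1) *
      Nat.card (Isom (restr B (pairPerp B u v))) := by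
  rw [← Subgroup.index_mul_card (MulAction.stabilizer (Isom B) (u, v)),
    MulAction.index_stabilizer, Nat.card_congr (pairStabEquiv hB huv).toEquiv,
    ← card_hyperbolic_pairs hB hq]
  congr 1
  rw [← Nat.card_coe_set_eq]
  refine Nat.card_congr (Equiv.setCongr ?_)
  ext ⟨x, y⟩
  constructor
  · rintro ⟨g, hg⟩
    obtain ⟨rfl, rfl⟩ : g • u = x ∧ g • v = y := Prod.ext_iff.mp hg
    show B (g • u) (g • v) = 1
    rw [isom_apply_smul, huv]
  · intro h
    obtain ⟨g, -, hgu, hgv⟩ := exists_TG_hyperbolic hB huv (show B x y = 1 from h)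
    exact ⟨g, Prod.ext hgu hgv⟩

/-- The order of the isometry group of a nondegenerate alternating form. -/
theorem card_isom {V : Type u} [AddCommGroup V] [Module F V] [FiniteDimensional F V]
    {B : V →ₗ[F] V →ₗ[F] F} (hB : IsSympForm B) (hq : Nat.card F = q) {m : ℕ}
    (hm : finrank F V = 2 * m) :
    Nat.card (Isom B) = q ^ (m ^ 2) * ∏ i ∈ Finset.range m, (q ^ (2 * (i + 1)) - 1) := by
  induction m generalizing V with
  | zero =>
    have : Subsingleton (Isom B) :=
      ⟨fun g h => by rw [isom_eq_one_of_finrank_zero hm g, isom_eq_one_of_finrank_zero hm h]⟩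
    simp [Nat.card_of_subsingleton (1 : Isom B)]
  | succ k ih =>
    obtain ⟨u, hu⟩ : ∃ u : V, u ≠ 0 := by
      have : Nontrivial V := Module.nontrivial_of_finrank_pos (R := F) (by omega)
      exact exists_ne 0
    obtain ⟨v, huv⟩ := hB.exists_eq_one hu
    have hfr := finrank_pairPerp hB huv
    rw [card_isom_step hB huv hq, ih (restr_pairPerp hB huv) (by omega), hm,
      Finset.prod_range_succ]
    have h1 : 2 * (k + 1) - 1 = 2 * k + 1 := by omega
    rw [h1, show (k + 1) ^ 2 = k ^ 2 + (2 * k + 1) by ring, pow_add q (k ^ 2) (2 * k + 1)]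
    ring

/-! ### The centre -/

section Centre

variable {V : Type*} [AddCommGroup V] [Module F V] {B : V →ₗ[F] V →ₗ[F] F}

/-- The isometry `-1`. -/
def negIsom (B : V →ₗ[F] V →ₗ[F] F) : Isom B :=
  ⟨LinearEquiv.neg F, fun x y => by simp⟩

omit [Finite F] in
@[simp]
theorem negIsom_smul (x : V) : negIsom B • x = -x := rfl

omit [Finite F] in
theorem negIsom_mem_center : negIsom B ∈ Subgroup.center (Isom B) := by
  rw [Subgroup.mem_center_iff]
  intro g
  apply isom_ext; intro x
  simp [mul_smul]

omit [Finite F] in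
theorem smul_mem_line_of_commute_transv (hB : IsSympForm B) {g : Isom B} {a : V} (ha : a ≠ 0)
    (h : g * transv hB a 1 = transv hB a 1 * g) : ∃ t : F, g • a = t • a := by
  have h1 : transv hB (g • a) 1 = transv hB a 1 := by
    rw [← transv_conj, h, mul_inv_cancel_right]
  obtain ⟨x, hx⟩ := hB.exists_eq_one ha
  have h2 := congrArg (fun k : Isom B => k • x) h1
  simp only [transv_smul, one_mul] at h2
  have h3 : B x (g • a) • g • a = B x a • a := add_left_cancel h2
  have hxa : B x a = -1 := by rw [hB.swap, hx]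
  rw [hxa] at h3
  have h4 : B x (g • a) ≠ 0 := fun h0 => by simp [h0, ha] at h3
  refine ⟨(B x (g • a))⁻¹ * (-1), ?_⟩
  rw [mul_smul, ← h3, smul_smul, inv_mul_cancel₀ h4, one_smul]

omit [Finite F] in
theorem eq_scalar_of_mem_center (hB : IsSympForm B) {g : Isom B}
    (hg : g ∈ Subgroup.center (Isom B)) : g = 1 ∨ g = negIsom B := by
  have line : ∀ x : V, ∃ t : F, g • x = t • x := by
    intro x
    by_cases hx : x = 0
    · exact ⟨0, by simp [hx]⟩
    exact smul_mem_line_of_commute_transv hB hx
      ((Subgroup.mem_center_iff.mp hg _).symm)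
  by_cases hV : ∀ x : V, x = 0
  · exact Or.inl (isom_ext fun x => (hV _).trans (hV _).symm)
  push Not at hV
  obtain ⟨u, hu⟩ := hV
  obtain ⟨v, huv⟩ := hB.exists_eq_one hu
  obtain ⟨l, hl⟩ := line u
  have indep : ∀ x : V, B u x ≠ 0 → g • x = l • x := by
    intro x hx
    obtain ⟨t, ht⟩ := line x
    obtain ⟨s, hs⟩ := line (x + u)
    rw [smul_add, ht, hl] at hs
    have h1 := congrArg (B u) hs
    simp only [map_add, map_smul, hB.self, smul_eq_mul, mul_zero, add_zero] at h1
    have hts : t = s := mul_right_cancel₀ hx h1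
    have h2 : l • u = s • u := by
      rw [hts, smul_add] at hs
      exact add_left_cancel hs
    have hls : l = s := by
      by_contra hne
      rw [← sub_eq_zero, ← sub_smul, smul_eq_zero] at h2
      exact h2.elim (sub_ne_zero.mpr hne) hu
    rw [ht, hts, hls]
  have all : ∀ x : V, g • x = l • x := by
    intro x
    by_cases hx : B u x = 0
    · have h1 : B u (x + v) ≠ 0 := by simp [hx, huv]
      have h2 := indep _ h1
      rw [smul_add, indep v (by simp [huv]), smul_add] at h2
      exact add_right_cancel h2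
    · exact indep x hx
  have hl2 : l * l = 1 := by
    have h := isom_apply_smul g u v
    rw [all, all, map_smul, map_smul, LinearMap.smul_apply, huv] at h
    simpa using h
  rcases mul_self_eq_one_iff.mp hl2 with h | h
  · exact Or.inl (isom_ext fun x => by rw [all, h, one_smul, one_smul])
  · exact Or.inr (isom_ext fun x => by rw [all, h, negIsom_smul, neg_one_smul])

omit [Finite F] in
theorem center_isom (hB : IsSympForm B) :
    (Subgroup.center (Isom B) : Set (Isom B)) = {1, negIsom B} := by
  ext g
  refine ⟨eq_scalar_of_mem_center hB, ?_⟩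
  rintro (rfl | rfl)
  · exact one_mem _
  · exact negIsom_mem_center

omit [Finite F] in
theorem negIsom_eq_one_iff [Nontrivial V] : negIsom B = 1 ↔ (2 : F) = 0 := by
  obtain ⟨x, hx⟩ := exists_ne (0 : V)
  constructor
  · intro h
    have := congrArg (fun k : Isom B => k • x) h
    simp only [negIsom_smul, one_smul] at this
    have h2 : (2 : F) • x = 0 := by
      rw [two_smul]
      nth_rw 2 [← this]
      exact add_neg_cancel x
    exact (smul_eq_zero.mp h2).resolve_right hx
  · intro h
    apply isom_ext; intro y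
    rw [negIsom_smul, one_smul, ← neg_one_smul F y, show (-1 : F) = 1 by linear_combination -h,
      one_smul]

theorem card_center_isom (hB : IsSympForm B) [Nontrivial V] (hq : Nat.card F = q) :
    Nat.card (Subgroup.center (Isom B)) = Nat.gcd 2 (q - 1) := by
  have : Fintype F := Fintype.ofFinite F
  rw [← SetLike.coe_sort_coe, Nat.card_coe_set_eq, center_isom hB]
  have hpos : 0 < q := hq ▸ Nat.card_pos
  rw [Nat.card_eq_fintype_card] at hq
  by_cases h : negIsom B = 1
  · rw [h, Set.insert_eq_of_mem (Set.mem_singleton_iff.mpr rfl), Set.ncard_singleton]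
    have h2 : ringChar F = 2 := by
      have hd := (ringChar.spec F 2).mp (by exact_mod_cast negIsom_eq_one_iff.mp h)
      exact ((Nat.dvd_prime Nat.prime_two).mp hd).resolve_left CharP.ringChar_ne_one
    have := FiniteField.even_card_of_char_two h2
    rw [hq] at this
    have hodd : ¬ (2 ∣ q - 1) := by omega
    exact Eq.symm ((Nat.prime_two.coprime_iff_not_dvd).mpr hodd)
  · rw [Set.ncard_pair (Ne.symm h)]
    have h2 : ringChar F ≠ 2 := fun h2 => h <| negIsom_eq_one_iff.mpr <| by
      have : (((2 : ℕ)) : F) = 0 := (ringChar.spec F 2).mpr (h2 ▸ dvd_rfl)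
      exact_mod_cast this
    have := FiniteField.odd_card_of_char_ne_two h2
    rw [hq] at this
    have heven : 2 ∣ q - 1 := by omega
    exact (Nat.gcd_eq_left heven).symm

end Centre

end Cfsg.Agent.Lib.Symplectic
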