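import Mathlib

/-!
# Nondegenerate alternating forms and their isometry groups

`IsSympForm B` says that `B : V →ₗ[F] V →ₗ[F] F` is alternating and nondegenerate.  For such a
form we develop, over an arbitrary field:
* `Isom B`, the isometry group as a subgroup of `V ≃ₗ[F] V`, acting on `V` by `•`;
* the transvections `transv hB a c : x ↦ x + (c * B x a) • a` and their group `TG hB`;
* transitivity on non-zero vectors and on pairs of given product;
* the splitting of `V` along a hyperbolic pair and the embedding `extHom` of the isometries of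
  the orthogonal complement, with range the stabiliser of the pair;
* generation by transvections, existence of a symplectic basis, the order over a finite field,
  and the centre.
-/

set_option autoImplicit false

namespace Cfsg.Agent.Lib.Symplectic

open Module

universe u

variable {F : Type*} {V : Type*} [Field F] [AddCommGroup V] [Module F V]

/-- `B` is alternating and nondegenerate. -/
structure IsSympForm (B : V →ₗ[F] V →ₗ[F] F) : Prop where
  self : ∀ x, B x x = 0
  nondeg : ∀ x, (∀ y, B x y = 0) → x = 0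

variable {B : V →ₗ[F] V →ₗ[F] F}

namespace IsSympForm

variable (hB : IsSympForm B)
include hB

theorem swap (x y : V) : B x y = -B y x := by
  have h := hB.self (x + y)
  simp only [map_add, LinearMap.add_apply, hB.self, zero_add, add_zero] at h
  linear_combination h

theorem comm_eq_zero {x y : V} : B x y = 0 ↔ B y x = 0 := by
  rw [hB.swap x y, neg_eq_zero]

theorem exists_eq_one {u : V} (hu : u ≠ 0) : ∃ v, B u v = 1 := by
  obtain ⟨y, hy⟩ : ∃ y, B u y ≠ 0 := by
    by_contra h
    push Not at h
    exact hu (hB.nondeg u h)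
  exact ⟨(B u y)⁻¹ • y, by rw [map_smul, smul_eq_mul, inv_mul_cancel₀ hy]⟩

theorem apply_ne_zero {u : V} (hu : u ≠ 0) : B u ≠ 0 := fun h =>
  hu (hB.nondeg u fun y => by rw [h, LinearMap.zero_apply])

/-- A vector outside the line of `u` pairs non-trivially with the perpendicular of `u`. -/
theorem exists_perp_ne_zero {u v : V} (hu : u ≠ 0) (hv : ∀ t : F, v ≠ t • u) :
    ∃ x, B u x = 0 ∧ B v x ≠ 0 := by
  by_contra h
  push Not at h
  obtain ⟨y, hy⟩ := hB.exists_eq_one hu
  refine hv (B v y) (sub_eq_zero.mp (hB.nondeg _ fun x => ?_))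
  have h1 : B u (x - B u x • y) = 0 := by simp [hy]
  have h2 := h _ h1
  simp only [map_sub, map_smul, LinearMap.sub_apply, LinearMap.smul_apply, smul_eq_mul] at h2 ⊢
  linear_combination h2

end IsSympForm

/-- Two functionals, each non-zero on `U`, are simultaneously non-zero somewhere on `U`. -/
theorem exists_both_ne_zero (U : Submodule F V) (f g : V →ₗ[F] F)
    (hf : ∃ x ∈ U, f x ≠ 0) (hg : ∃ x ∈ U, g x ≠ 0) : ∃ w ∈ U, f w ≠ 0 ∧ g w ≠ 0 := by
  obtain ⟨x, hx, hfx⟩ := hf
  obtain ⟨y, hy, hgy⟩ := hg
  by_cases h1 : g x ≠ 0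
  · exact ⟨x, hx, hfx, h1⟩
  by_cases h2 : f y ≠ 0
  · exact ⟨y, hy, h2, hgy⟩
  push Not at h1 h2
  exact ⟨x + y, U.add_mem hx hy, by rwa [map_add, h2, add_zero], by rwa [map_add, h1, zero_add]⟩

/-- The isometry group of `B`. -/
def Isom (B : V →ₗ[F] V →ₗ[F] F) : Subgroup (V ≃ₗ[F] V) where
  carrier := {g | ∀ x y, B (g x) (g y) = B x y}
  mul_mem' {a b} ha hb x y := by
    rw [LinearEquiv.mul_apply, LinearEquiv.mul_apply, ha, hb]
  one_mem' x y := rfl
  inv_mem' {a} ha x y := by
    have h := ha (a⁻¹ x) (a⁻¹ y)
    rw [← LinearEquiv.mul_apply, ← LinearEquiv.mul_apply, mul_inv_cancel] at h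
    exact h.symm

theorem isom_smul_def (g : Isom B) (x : V) : g • x = (g : V ≃ₗ[F] V) x := rfl

@[simp]
theorem isom_apply_smul (g : Isom B) (x y : V) : B (g • x) (g • y) = B x y := g.2 x y

theorem isom_apply_smul_left (g : Isom B) (x y : V) : B (g • x) y = B x (g⁻¹ • y) := by
  conv_lhs => rw [← smul_inv_smul g y, isom_apply_smul]

theorem isom_ext {g h : Isom B} (H : ∀ x : V, g • x = h • x) : g = h :=
  Subtype.ext (LinearEquiv.ext H)

theorem isom_smul_ne_zero (g : Isom B) {x : V} (hx : x ≠ 0) : g • x ≠ 0 :=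
  (smul_ne_zero_iff_ne g).mpr hx

/-- Transporting isometry groups along a linear isometry. -/
def isomCongr {W : Type*} [AddCommGroup W] [Module F W] {B' : W →ₗ[F] W →ₗ[F] F}
    (e : V ≃ₗ[F] W) (he : ∀ x y, B' (e x) (e y) = B x y) : Isom B ≃* Isom B' where
  toFun g := ⟨e.symm.trans ((g : V ≃ₗ[F] V).trans e), fun x y => by
    rw [LinearEquiv.trans_apply, LinearEquiv.trans_apply, LinearEquiv.trans_apply,
      LinearEquiv.trans_apply, he, g.2, ← he, e.apply_symm_apply, e.apply_symm_apply]⟩
  invFun g := ⟨e.trans ((g : W ≃ₗ[F] W).trans e.symm), fun x y => by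
    rw [LinearEquiv.trans_apply, LinearEquiv.trans_apply, LinearEquiv.trans_apply,
      LinearEquiv.trans_apply, ← he, e.apply_symm_apply, e.apply_symm_apply, g.2, he]⟩
  left_inv g := by
    apply isom_ext; intro x; simp [isom_smul_def]
  right_inv g := by
    apply isom_ext; intro x; simp [isom_smul_def]
  map_mul' g h := by
    apply isom_ext; intro x; simp [isom_smul_def, LinearEquiv.mul_apply]

theorem isomCongr_smul {W : Type*} [AddCommGroup W] [Module F W] {B' : W →ₗ[F] W →ₗ[F] F}
    (e : V ≃ₗ[F] W) (he : ∀ x y, B' (e x) (e y) = B x y) (g : Isom B) (x : V) :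
    isomCongr e he g • e x = e (g • x) := by
  simp [isomCongr, isom_smul_def]

variable (hB : IsSympForm B)

/-- The transvection `x ↦ x + c B(x, a) a` as a linear map. -/
def transvMap (B : V →ₗ[F] V →ₗ[F] F) (a : V) (c : F) : V →ₗ[F] V :=
  LinearMap.id + (c • B.flip a).smulRight a

theorem transvMap_apply (a : V) (c : F) (x : V) :
    transvMap B a c x = x + (c * B x a) • a := rfl

include hB in
theorem transvMap_comp (a : V) (c d : F) (x : V) :
    transvMap B a c (transvMap B a d x) = transvMap B a (c + d) x := by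
  simp only [transvMap_apply, map_add, map_smul, LinearMap.add_apply, LinearMap.smul_apply,
    hB.self, smul_zero, add_zero]
  module

include hB in
theorem transvMap_comp_neg (a : V) (c : F) (x : V) :
    transvMap B a c (transvMap B a (-c) x) = x := by
  rw [transvMap_comp hB, add_neg_cancel, transvMap_apply, zero_mul, zero_smul, add_zero]

/-- The transvection `x ↦ x + c B(x, a) a` as an isometry. -/
def transv (hB : IsSympForm B) (a : V) (c : F) : Isom B :=
  ⟨LinearEquiv.ofLinearMap (transvMap B a c) (transvMap B a (-c))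
      (LinearMap.ext fun x => transvMap_comp_neg hB a c x)
      (LinearMap.ext fun x => by simpa using transvMap_comp_neg hB a (-c) x), fun x y => by
    show B (transvMap B a c x) (transvMap B a c y) = B x y
    simp only [transvMap_apply, map_add, map_smul, LinearMap.add_apply, LinearMap.smul_apply,
      hB.self, smul_zero, add_zero, smul_eq_mul]
    rw [hB.swap a y]
    ring⟩

theorem transv_smul (a : V) (c : F) (x : V) : transv hB a c • x = x + (c * B x a) • a := rfl

theorem transv_mul (a : V) (c d : F) :
    transv hB a c * transv hB a d = transv hB a (c + d) := by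
  apply isom_ext; intro x
  rw [mul_smul]
  exact transvMap_comp hB a c d x

@[simp]
theorem transv_zero (a : V) : transv hB a (0 : F) = 1 := by
  apply isom_ext; intro x; simp [transv_smul]

@[simp]
theorem transv_vec_zero (c : F) : transv hB (0 : V) c = 1 := by
  apply isom_ext; intro x; simp [transv_smul]

theorem transv_inv (a : V) (c : F) : (transv hB a c)⁻¹ = transv hB a (-c) := by
  refine inv_eq_of_mul_eq_one_right ?_
  rw [transv_mul, add_neg_cancel, transv_zero]

theorem transv_conj (g : Isom B) (a : V) (c : F) :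
    g * transv hB a c * g⁻¹ = transv hB (g • a) c := by
  apply isom_ext; intro x
  rw [mul_smul, mul_smul, transv_smul, transv_smul, smul_add, smul_inv_smul, smul_comm g,
    isom_apply_smul_left, inv_inv]

theorem transv_vec_smul (a : V) (t c : F) : transv hB (t • a) c = transv hB a (t ^ 2 * c) := by
  apply isom_ext; intro x
  simp only [transv_smul, map_smul, smul_eq_mul, smul_smul]
  ring_nf

theorem transv_fix {a x : V} (h : B x a = 0) (c : F) : transv hB a c • x = x := by
  simp [transv_smul, h]

theorem transv_move {x y : V} (h : B x y ≠ 0) :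
    transv hB (y - x) (B x y)⁻¹ • x = y := by
  simp [transv_smul, hB.self, h]

/-- The subgroup generated by all transvections. -/
def TG : Subgroup (Isom B) :=
  Subgroup.closure (Set.range fun p : V × F => transv hB p.1 p.2)

theorem transv_mem_TG (a : V) (c : F) : transv hB a c ∈ TG hB :=
  Subgroup.subset_closure ⟨(a, c), rfl⟩

theorem exists_TG_fix {u v v' : V} (hu : u ≠ 0) (h : B u v = B u v')
    (hne : B u v ≠ 0 ∨ ((∀ t : F, v ≠ t • u) ∧ ∀ t : F, v' ≠ t • u)) :
    ∃ g ∈ TG hB, g • u = u ∧ g • v = v' := by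
  have step : ∀ x y : V, B x y ≠ 0 → B u x = B u y →
      ∃ g ∈ TG hB, g • u = u ∧ g • x = y := fun x y hxy hu' =>
    ⟨transv hB (y - x) (B x y)⁻¹, transv_mem_TG hB _ _,
      transv_fix hB (by rw [map_sub, hu', sub_self]) _, transv_move hB hxy⟩
  by_cases hvv' : B v v' ≠ 0
  · exact step v v' hvv' h
  push Not at hvv'
  obtain ⟨w, hw1, hw2, hw3⟩ : ∃ w, B u w = B u v ∧ B v w ≠ 0 ∧ B w v' ≠ 0 := by
    by_cases h0 : B u v = 0
    · obtain ⟨hv, hv'⟩ := hne.resolve_left (not_not.mpr h0)
      obtain ⟨x, hx1, hx2⟩ := hB.exists_perp_ne_zero hu hv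
      obtain ⟨y, hy1, hy2⟩ := hB.exists_perp_ne_zero hu hv'
      obtain ⟨w, hw1, hw2, hw3⟩ := exists_both_ne_zero (LinearMap.ker (B u)) (B v) (B v')
        ⟨x, hx1, hx2⟩ ⟨y, hy1, hy2⟩
      exact ⟨w, hw1.trans h0.symm, hw2, mt hB.comm_eq_zero.mp hw3⟩
    · refine ⟨u + v, by rw [map_add, hB.self, zero_add], ?_, ?_⟩
      · rw [map_add, hB.self, add_zero, hB.swap v u, neg_ne_zero]; exact h0
      · rw [map_add, LinearMap.add_apply, hvv', add_zero, ← h]; exact h0
  obtain ⟨g₁, hg₁, hg₁u, hg₁v⟩ := step v w hw2 hw1.symm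
  obtain ⟨g₂, hg₂, hg₂u, hg₂v⟩ := step w v' hw3 (hw1.trans h)
  exact ⟨g₂ * g₁, mul_mem hg₂ hg₁, by rw [mul_smul, hg₁u, hg₂u], by rw [mul_smul, hg₁v, hg₂v]⟩

/-- The transvection group is transitive on non-zero vectors. -/
theorem exists_TG_smul_eq {x y : V} (hx : x ≠ 0) (hy : y ≠ 0) :
    ∃ g ∈ TG hB, g • x = y := by
  by_cases h : B x y ≠ 0
  · exact ⟨_, transv_mem_TG hB _ _, transv_move hB h⟩
  obtain ⟨a, ha⟩ := hB.exists_eq_one hx
  obtain ⟨b, hb⟩ := hB.exists_eq_one hy
  obtain ⟨w, -, hw1, hw2⟩ := exists_both_ne_zero ⊤ (B x) (B y)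
    ⟨a, trivial, by simp [ha]⟩ ⟨b, trivial, by simp [hb]⟩
  have hw2' : B w y ≠ 0 := mt hB.comm_eq_zero.mp hw2
  refine ⟨_, mul_mem (transv_mem_TG hB (y - w) (B w y)⁻¹) (transv_mem_TG hB (w - x) (B x w)⁻¹), ?_⟩
  rw [mul_smul, transv_move hB hw1, transv_move hB hw2']

/-- The transvection group is transitive on pairs with a given product. -/
theorem exists_TG_pair {u v u' v' : V} (hu : u ≠ 0) (hu' : u' ≠ 0) (h : B u v = B u' v')
    (hne : B u v ≠ 0 ∨ ((∀ t : F, v ≠ t • u) ∧ ∀ t : F, v' ≠ t • u')) :
    ∃ g ∈ TG hB, g • u = u' ∧ g • v = v' := by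
  obtain ⟨g, hg, hgu⟩ := exists_TG_smul_eq hB hu hu'
  have h1 : B u' (g • v) = B u' v' := by rw [← hgu, isom_apply_smul, h, hgu]
  have h2 : B u' (g • v) ≠ 0 ∨ ((∀ t : F, g • v ≠ t • u') ∧ ∀ t : F, v' ≠ t • u') := by
    refine hne.imp (fun hh => ?_) (fun hh => ⟨fun t ht => hh.1 t ?_, hh.2⟩)
    · rwa [h1, ← h]
    · have := congrArg (g⁻¹ • ·) ht
      simp only [inv_smul_smul] at this
      rw [this, smul_comm, ← hgu, inv_smul_smul]
  obtain ⟨k, hk, hku, hkv⟩ := exists_TG_fix hB hu' h1 h2
  exact ⟨k * g, mul_mem hk hg, by rw [mul_smul, hgu, hku], by rw [mul_smul, hkv]⟩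

/-- Every hyperbolic pair can be carried to every other one. -/
theorem exists_TG_hyperbolic {u v u' v' : V} (h : B u v = 1) (h' : B u' v' = 1) :
    ∃ g ∈ TG hB, g • u = u' ∧ g • v = v' := by
  have hu : u ≠ 0 := fun hz => by simp [hz] at h
  have hu' : u' ≠ 0 := fun hz => by simp [hz] at h'
  exact exists_TG_pair hB hu hu' (h.trans h'.symm) (Or.inl (by simp [h]))

include hB in
theorem exists_smul_eq_of_ne_zero {x y : V} (hx : x ≠ 0) (hy : y ≠ 0) :
    ∃ g : Isom B, g • x = y := by
  obtain ⟨g, -, hg⟩ := exists_TG_smul_eq hB hx hy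
  exact ⟨g, hg⟩

/-- The perpendicular of a pair of vectors. -/
def pairPerp (B : V →ₗ[F] V →ₗ[F] F) (u v : V) : Submodule F V :=
  LinearMap.ker (B u) ⊓ LinearMap.ker (B v)

theorem mem_pairPerp {u v x : V} : x ∈ pairPerp B u v ↔ B u x = 0 ∧ B v x = 0 := Iff.rfl

/-- The form restricted to a submodule. -/
def restr (B : V →ₗ[F] V →ₗ[F] F) (W : Submodule F V) : W →ₗ[F] W →ₗ[F] F :=
  B.compl₁₂ W.subtype W.subtype

@[simp]
theorem restr_apply (W : Submodule F V) (x y : W) : restr B W x y = B (x : V) y := rfl

/-- The orthogonal projection to the perpendicular of a hyperbolic pair, as a map to `V`. -/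
def pairProjAux (B : V →ₗ[F] V →ₗ[F] F) (u v : V) : V →ₗ[F] V :=
  LinearMap.id - (B.flip v).smulRight u + (B.flip u).smulRight v

theorem pairProjAux_apply (u v x : V) :
    pairProjAux B u v x = x - B x v • u + B x u • v := rfl

variable {u v : V} (huv : B u v = 1)

include hB huv in
theorem pairProjAux_mem (x : V) : pairProjAux B u v x ∈ pairPerp B u v := by
  rw [mem_pairPerp, pairProjAux_apply]
  simp only [map_add, map_sub, map_smul, hB.self, huv, smul_eq_mul, mul_zero, hB.swap v u,
    hB.swap u x, hB.swap v x]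
  constructor <;> ring

/-- The orthogonal projection to the perpendicular of a hyperbolic pair. -/
def pairProj : V →ₗ[F] pairPerp B u v :=
  (pairProjAux B u v).codRestrict _ (pairProjAux_mem hB huv)

theorem coe_pairProj (x : V) :
    (pairProj hB huv x : V) = x - B x v • u + B x u • v := rfl

include hB in
theorem perp_apply_left (w : pairPerp B u v) : B (w : V) u = 0 ∧ B (w : V) v = 0 :=
  ⟨hB.comm_eq_zero.mp (mem_pairPerp.mp w.2).1, hB.comm_eq_zero.mp (mem_pairPerp.mp w.2).2⟩

theorem pairProj_of_mem (w : pairPerp B u v) : pairProj hB huv (w : V) = w := by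
  apply Subtype.ext
  simp [coe_pairProj, perp_apply_left hB w]

/-- The splitting of `V` along a hyperbolic pair. -/
def pairSplit : V ≃ₗ[F] (F × F) × pairPerp B u v where
  toFun x := ((B x v, -B x u), pairProj hB huv x)
  map_add' x y := by simp [add_comm]
  map_smul' c x := by simp
  invFun p := p.1.1 • u + p.1.2 • v + (p.2 : V)
  left_inv x := by
    show B x v • u + (-B x u) • v + (pairProj hB huv x : V) = x
    rw [coe_pairProj]
    module
  right_inv p := by
    obtain ⟨⟨a, b⟩, w⟩ := p
    have h1 : B (a • u + b • v + (w : V)) v = a := by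
      simp [huv, hB.self, perp_apply_left hB w]
    have h2 : B (a • u + b • v + (w : V)) u = -b := by
      simp [hB.swap v u, huv, hB.self, perp_apply_left hB w]
    ext
    · exact h1
    · show -B (a • u + b • v + (w : V)) u = b
      rw [h2, neg_neg]
    · show (pairProj hB huv (a • u + b • v + (w : V)) : V) = w
      rw [coe_pairProj, h1, h2]
      module

include hB huv in
theorem apply_split (x y : V) : B x y =
    B x u * B y v - B x v * B y u + B (pairProj hB huv x : V) (pairProj hB huv y) := by
  simp only [coe_pairProj, map_add, map_sub, map_smul, LinearMap.add_apply, LinearMap.sub_apply,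
    LinearMap.smul_apply, smul_eq_mul, hB.self, huv, hB.swap v u, hB.swap u y, hB.swap v y]
  ring

include hB huv in
theorem restr_pairPerp : IsSympForm (restr B (pairPerp B u v)) where
  self x := hB.self _
  nondeg x hx := by
    apply Subtype.ext
    refine hB.nondeg _ fun y => ?_
    rw [apply_split hB huv, pairProj_of_mem hB huv x]
    simpa [perp_apply_left hB x] using hx (pairProj hB huv y)

include hB huv in
theorem finrank_pairPerp [FiniteDimensional F V] :
    finrank F (pairPerp B u v) + 2 = finrank F V := by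
  rw [(pairSplit hB huv).finrank_eq, Module.finrank_prod, Module.finrank_prod,
    Module.finrank_self]
  ring

/-- Extend an endomorphism of the perpendicular of a pair by the identity on the pair. -/
def extMap (g : pairPerp B u v →ₗ[F] pairPerp B u v) : V →ₗ[F] V :=
  (pairSplit hB huv).symm.toLinearMap ∘ₗ
    (LinearMap.prodMap LinearMap.id g) ∘ₗ (pairSplit hB huv).toLinearMap

/-- The embedding of the isometries of the perpendicular of a hyperbolic pair. -/
def extHom : Isom (restr B (pairPerp B u v)) →* Isom B where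
  toFun g := ⟨(pairSplit hB huv).trans
      ((LinearEquiv.prodCongr (LinearEquiv.refl F (F × F)) (g : _ ≃ₗ[F] _)).trans
        (pairSplit hB huv).symm), fun x y => by
    have e : ∀ z, ((pairSplit hB huv).trans
        ((LinearEquiv.prodCongr (LinearEquiv.refl F (F × F)) (g : _ ≃ₗ[F] _)).trans
          (pairSplit hB huv).symm)) z
        = B z v • u + (-B z u) • v + ((g • pairProj hB huv z : pairPerp B u v) : V) := fun z => rfl
    rw [e, e]
    have hg : B ((g • pairProj hB huv x : pairPerp B u v) : V)
        ((g • pairProj hB huv y : pairPerp B u v) : V) =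
        B (pairProj hB huv x : V) (pairProj hB huv y) :=
      isom_apply_smul (B := restr B (pairPerp B u v)) g _ _
    rw [apply_split hB huv x y]
    simp only [map_add, map_smul, LinearMap.add_apply, LinearMap.smul_apply, smul_eq_mul,
      hB.self, huv, hB.swap v u, hg, perp_apply_left hB, (mem_pairPerp.mp (Subtype.coe_prop _))]
    ring⟩
  map_one' := by
    apply isom_ext; intro x
    exact (pairSplit hB huv).symm_apply_apply x
  map_mul' g h := by
    apply isom_ext; intro x
    simp [isom_smul_def, LinearEquiv.mul_apply]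

theorem extHom_smul (g : Isom (restr B (pairPerp B u v))) (x : V) :
    extHom hB huv g • x =
      B x v • u + (-B x u) • v + ((g • pairProj hB huv x : pairPerp B u v) : V) := rfl

theorem extHom_smul_left (g : Isom (restr B (pairPerp B u v))) :
    extHom hB huv g • u = u := by
  have : pairProj hB huv u = 0 := by
    apply Subtype.ext; simp [coe_pairProj, huv, hB.self]
  simp [extHom_smul, this, huv, hB.self]

theorem extHom_smul_right (g : Isom (restr B (pairPerp B u v))) :
    extHom hB huv g • v = v := by
  have : pairProj hB huv v = 0 := by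
    apply Subtype.ext; simp [coe_pairProj, huv, hB.self, hB.swap v u]
  simp [extHom_smul, this, huv, hB.self, hB.swap v u]

theorem extHom_smul_mem (g : Isom (restr B (pairPerp B u v))) (w : pairPerp B u v) :
    extHom hB huv g • (w : V) = ((g • w : pairPerp B u v) : V) := by
  simp [extHom_smul, pairProj_of_mem, perp_apply_left hB w]

theorem extHom_injective : Function.Injective (extHom hB huv) := fun g h hgh => by
  apply isom_ext; intro w; apply Subtype.ext
  rw [← extHom_smul_mem hB huv, ← extHom_smul_mem hB huv, hgh]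

theorem extHom_transv (a : pairPerp B u v) (c : F) :
    extHom hB huv (transv (restr_pairPerp hB huv) a c) = transv hB (a : V) c := by
  apply isom_ext; intro x
  have h : B (pairProj hB huv x : V) (a : V) = B x (a : V) := by
    simp [coe_pairProj, (mem_pairPerp.mp a.2)]
  rw [extHom_smul, transv_smul, transv_smul]
  simp only [Submodule.coe_add, Submodule.coe_smul_of_tower, restr_apply, h]
  rw [coe_pairProj]
  module

/-- The stabiliser of a hyperbolic pair consists of the extended isometries of its
perpendicular. -/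
theorem range_extHom : (extHom hB huv).range = MulAction.stabilizer (Isom B) (u, v) := by
  refine le_antisymm ?_ fun g hg => ?_
  · rintro _ ⟨g, rfl⟩
    exact Prod.ext (extHom_smul_left hB huv g) (extHom_smul_right hB huv g)
  obtain ⟨hu, hv⟩ : g • u = u ∧ g • v = v := Prod.ext_iff.mp hg
  have key : ∀ k : Isom B, k • u = u → k • v = v → ∀ x ∈ pairPerp B u v,
      (k : V ≃ₗ[F] V) x ∈ pairPerp B u v := by
    intro k hku hkv x hx
    rw [mem_pairPerp] at hx ⊢
    constructor
    · rw [← hku, ← isom_smul_def, isom_apply_smul]; exact hx.1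
    · rw [← hkv, ← isom_smul_def, isom_apply_smul]; exact hx.2
  have hu' : g⁻¹ • u = u := by rw [inv_smul_eq_iff, hu]
  have hv' : g⁻¹ • v = v := by rw [inv_smul_eq_iff, hv]
  let h : pairPerp B u v ≃ₗ[F] pairPerp B u v :=
    LinearEquiv.ofLinearMap
      ((g : V ≃ₗ[F] V).toLinearMap.restrict (key g hu hv))
      (((g⁻¹ : Isom B) : V ≃ₗ[F] V).toLinearMap.restrict (key g⁻¹ hu' hv'))
      (LinearMap.ext fun x => Subtype.ext (smul_inv_smul g (x : V)))
      (LinearMap.ext fun x => Subtype.ext (inv_smul_smul g (x : V)))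
  refine ⟨⟨h, fun x y => g.2 x y⟩, isom_ext fun x => ?_⟩
  rw [extHom_smul]
  have e : ((⟨h, fun x y => g.2 x y⟩ : Isom (restr B (pairPerp B u v))) •
      pairProj hB huv x : pairPerp B u v).1 = g • (pairProj hB huv x : V) := rfl
  rw [e, coe_pairProj, smul_add, smul_sub, smul_comm g, smul_comm g, hu, hv]
  rw [neg_smul]; abel

/-- The stabiliser of a hyperbolic pair is the isometry group of its perpendicular. -/
noncomputable def pairStabEquiv :
    Isom (restr B (pairPerp B u v)) ≃* MulAction.stabilizer (Isom B) (u, v) :=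
  (MonoidHom.ofInjective (extHom_injective hB huv)).trans
    (MulEquiv.subgroupCongr (range_extHom hB huv))

theorem isom_eq_one_of_finrank_zero [FiniteDimensional F V] (h : finrank F V = 0)
    (g : Isom B) : g = 1 := by
  have : Subsingleton V := Module.finrank_zero_iff.mp h
  exact isom_ext fun x => Subsingleton.elim _ _

/-- The isometry group of a nondegenerate alternating form is generated by transvections. -/
theorem TG_eq_top {V : Type u} [AddCommGroup V] [Module F V] [FiniteDimensional F V]
    {B : V →ₗ[F] V →ₗ[F] F} (hB : IsSympForm B) : TG hB = ⊤ := by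
  suffices H : ∀ (n : ℕ) (V : Type u) [AddCommGroup V] [Module F V] [FiniteDimensional F V]
      (B : V →ₗ[F] V →ₗ[F] F) (hB : IsSympForm B), finrank F V = n → TG hB = ⊤ from
    H _ V B hB rfl
  intro n
  induction n using Nat.strong_induction_on with
  | _ n ih =>
    intro V _ _ _ B hB hn
    refine eq_top_iff.mpr fun g _ => ?_
    by_cases h0 : finrank F V = 0
    · rw [isom_eq_one_of_finrank_zero h0 g]; exact one_mem _
    obtain ⟨u, hu⟩ : ∃ u : V, u ≠ 0 := by
      have : Nontrivial V := Module.nontrivial_of_finrank_pos (Nat.pos_of_ne_zero h0)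
      exact exists_ne 0
    obtain ⟨v, huv⟩ := hB.exists_eq_one hu
    obtain ⟨t, ht, htu, htv⟩ := exists_TG_hyperbolic hB
      ((isom_apply_smul g u v).trans huv) huv
    have hmem : t * g ∈ (extHom hB huv).range := by
      rw [range_extHom hB huv]
      exact Prod.ext (by simp [mul_smul, htu]) (by simp [mul_smul, htv])
    obtain ⟨k, hk⟩ := hmem
    have hfr := finrank_pairPerp hB huv
    have hk' : k ∈ TG (restr_pairPerp hB huv) := by
      rw [ih _ (by omega) _ _ (restr_pairPerp hB huv) rfl]; trivial
    have hle : TG (restr_pairPerp hB huv) ≤ (TG hB).comap (extHom hB huv) := by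
      refine (Subgroup.closure_le _).mpr ?_
      rintro _ ⟨p, rfl⟩
      show extHom hB huv (transv (restr_pairPerp hB huv) p.1 p.2) ∈ TG hB
      rw [extHom_transv]
      exact transv_mem_TG hB _ _
    have : t * g ∈ TG hB := hk ▸ hle hk'
    simpa using mul_mem (inv_mem ht) this

end Cfsg.Agent.Lib.Symplectic
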