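import Cfsg.Agent.Lib.Symplectic.Std

/-!
# `O_{2m+1}(q) ≅ Sp_{2m}(q)` in characteristic two

For the form `x₀² + Σ xᵢ yᵢ` over a perfect field of characteristic two, an isometry fixes the
radical vector and is determined by its action on the quotient by the radical.
-/

set_option autoImplicit false

namespace Cfsg.Agent.Lib.Symplectic.OddOrthChar2

open Matrix Cfsg.Agent.Lib.Symplectic

variable {F : Type*} [Field F] [CharP F 2] {m : ℕ}

/-- The hyperbolic part of the form. -/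
def qp (x : Fin m ⊕ Fin m → F) : F := ∑ i, x (Sum.inl i) * x (Sum.inr i)

theorem quadFormOdd_eq (v : Unit ⊕ (Fin m ⊕ Fin m) → F) :
    Cfsg.quadFormOdd m F v = v (Sum.inl ()) ^ 2 + qp (fun j => v (Sum.inr j)) := rfl

theorem quadFormOdd_elim (a : Unit → F) (x : Fin m ⊕ Fin m → F) :
    Cfsg.quadFormOdd m F (Sum.elim a x) = a () ^ 2 + qp x := rfl

theorem qp_add (x y : Fin m ⊕ Fin m → F) : qp (x + y) = qp x + qp y + stdForm m F x y := by
  rw [qp, qp, qp, stdForm_apply, ← Finset.sum_add_distrib, ← Finset.sum_add_distrib]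
  refine Finset.sum_congr rfl fun i _ => ?_
  simp only [Pi.add_apply]
  rw [CharTwo.sub_eq_add]
  ring

theorem qp_smul (t : F) (x : Fin m ⊕ Fin m → F) : qp (t • x) = t ^ 2 * qp x := by
  rw [qp, qp, Finset.mul_sum]
  exact Finset.sum_congr rfl fun i _ => by simp only [Pi.smul_apply, smul_eq_mul]; ring

/-- Blocks of an isometry of `quadFormOdd`. -/
theorem blocks {g : Matrix (Unit ⊕ (Fin m ⊕ Fin m)) (Unit ⊕ (Fin m ⊕ Fin m)) F}
    (hinj : Function.Injective g.mulVec)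
    (hsurj : Function.Surjective g.mulVec)
    (hg : ∀ v, Cfsg.quadFormOdd m F (g *ᵥ v) = Cfsg.quadFormOdd m F v) :
    g.toBlocks₁₁ = 1 ∧ g.toBlocks₂₁ = 0 ∧ g.toBlocks₂₂ ∈ symplecticGroup (Fin m) F ∧
      ∀ x, (g.toBlocks₁₂ *ᵥ x) () ^ 2 + qp (g.toBlocks₂₂ *ᵥ x) = qp x := by
  have happ : ∀ a x, g *ᵥ Sum.elim a x = Sum.elim (g.toBlocks₁₁ *ᵥ a + g.toBlocks₁₂ *ᵥ x)
      (g.toBlocks₂₁ *ᵥ a + g.toBlocks₂₂ *ᵥ x) := fun a x => by
    conv_lhs => rw [← g.fromBlocks_toBlocks, Matrix.fromBlocks_mulVec]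
    simp
  have hQ : ∀ a x, (g.toBlocks₁₁ *ᵥ a + g.toBlocks₁₂ *ᵥ x) () ^ 2 +
      qp (g.toBlocks₂₁ *ᵥ a + g.toBlocks₂₂ *ᵥ x) = a () ^ 2 + qp x := fun a x => by
    have h := hg (Sum.elim a x)
    rwa [happ, quadFormOdd_elim, quadFormOdd_elim] at h
  set d : Fin m ⊕ Fin m → F := g.toBlocks₂₁ *ᵥ (fun _ => 1) with hd
  have hperp : ∀ a x, stdForm m F d (g.toBlocks₂₁ *ᵥ a + g.toBlocks₂₂ *ᵥ x) = 0 := by
    intro a x
    have h1 := hQ ((fun _ => 1) + a) x
    rw [Matrix.mulVec_add, Matrix.mulVec_add, add_assoc (g.toBlocks₁₁ *ᵥ fun _ => 1),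
      add_assoc (g.toBlocks₂₁ *ᵥ fun _ => 1), ← hd, qp_add, Pi.add_apply _ _ (),
      CharTwo.add_sq, Pi.add_apply (fun _ : Unit => (1 : F)) a (), CharTwo.add_sq] at h1
    have h2 := hQ a x
    have h3 := hQ (fun _ => 1) 0
    simp only [Matrix.mulVec_zero, add_zero] at h3
    rw [← hd, show qp (0 : Fin m ⊕ Fin m → F) = 0 by simp [qp]] at h3
    linear_combination h1 - h2 - h3
  have hd0 : d = 0 := by
    refine (isSympForm_stdForm m F).nondeg d fun y => ?_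
    obtain ⟨v, hv⟩ := hsurj (Sum.elim 0 y)
    obtain ⟨a, x, rfl⟩ : ∃ a x, v = Sum.elim a x :=
      ⟨_, _, (Sum.elim_comp_inl_inr v).symm⟩
    rw [happ] at hv
    rw [← (Sum.elim_eq_iff.mp hv).2]
    exact hperp a x
  have h21 : g.toBlocks₂₁ = 0 := by
    ext i j
    have := congrFun hd0 i
    rw [hd] at this
    simpa [Matrix.mulVec, dotProduct] using this
  have h11 : g.toBlocks₁₁ = 1 := by
    have h := hQ (fun _ => 1) 0
    rw [h21] at h
    simp only [Matrix.mulVec_zero, Matrix.zero_mulVec, add_zero] at h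
    rw [show qp (0 : Fin m ⊕ Fin m → F) = 0 by simp [qp], add_zero, add_zero] at h
    have h' : (g.toBlocks₁₁ () ()) ^ 2 = (1 : F) ^ 2 := by
      simpa [Matrix.mulVec, dotProduct] using h
    ext i j
    rw [Matrix.one_apply, if_pos (Subsingleton.elim i j)]
    exact frobenius_inj F 2 h'
  have hsq : ∀ x, (g.toBlocks₁₂ *ᵥ x) () ^ 2 + qp (g.toBlocks₂₂ *ᵥ x) = qp x := fun x => by
    simpa using hQ 0 x
  refine ⟨h11, h21, mem_sp_iff.mpr fun x y => ?_, hsq⟩
  have h1 := hsq (x + y)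
  rw [Matrix.mulVec_add, Matrix.mulVec_add, Pi.add_apply, CharTwo.add_sq, qp_add, qp_add] at h1
  linear_combination h1 - hsq x - hsq y

theorem isometry_props (g : Cfsg.isometryGroup F (Cfsg.quadFormOdd m F)) :
    (g.1.1).toBlocks₁₁ = 1 ∧ (g.1.1).toBlocks₂₁ = 0 ∧
      (g.1.1).toBlocks₂₂ ∈ symplecticGroup (Fin m) F ∧
      ∀ x, ((g.1.1).toBlocks₁₂ *ᵥ x) () ^ 2 + qp ((g.1.1).toBlocks₂₂ *ᵥ x) = qp x :=
  blocks (Matrix.mulVec_injective_iff_isUnit.mpr g.1.isUnit)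
    (Matrix.mulVec_surjective_iff_isUnit.mpr g.1.isUnit) (fun v => g.2 v v)

/-- The action on the quotient by the radical. -/
def quotHom (m : ℕ) (F : Type*) [Field F] [CharP F 2] :
    Cfsg.isometryGroup F (Cfsg.quadFormOdd m F) →* symplecticGroup (Fin m) F where
  toFun g := ⟨(g.1.1).toBlocks₂₂, (isometry_props g).2.2.1⟩
  map_one' := by
    apply Subtype.ext
    show (1 : Matrix (Unit ⊕ (Fin m ⊕ Fin m)) (Unit ⊕ (Fin m ⊕ Fin m)) F).toBlocks₂₂ = 1
    rw [← Matrix.fromBlocks_one, Matrix.toBlocks_fromBlocks₂₂]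
  map_mul' g h := by
    apply Subtype.ext
    show (g.1.1 * h.1.1).toBlocks₂₂ = (g.1.1).toBlocks₂₂ * (h.1.1).toBlocks₂₂
    conv_lhs => rw [← (g.1.1).fromBlocks_toBlocks, ← (h.1.1).fromBlocks_toBlocks,
      Matrix.fromBlocks_multiply, Matrix.toBlocks_fromBlocks₂₂, (isometry_props g).2.1]
    rw [Matrix.zero_mul, zero_add]

theorem quotHom_injective : Function.Injective (quotHom m F) := by
  rw [injective_iff_map_eq_one]
  intro g hg
  obtain ⟨h11, h21, -, hsq⟩ := isometry_props g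
  have h22 : (g.1.1).toBlocks₂₂ = 1 := congrArg Subtype.val hg
  have h12 : (g.1.1).toBlocks₁₂ = 0 := by
    refine Matrix.mulVec_injective (funext fun x => ?_)
    show _ *ᵥ x = (0 : Matrix Unit (Fin m ⊕ Fin m) F) *ᵥ x
    have h := hsq x
    rw [h22, Matrix.one_mulVec, add_eq_right] at h
    rw [Matrix.zero_mulVec]
    funext u
    exact pow_eq_zero_iff two_ne_zero |>.mp h
  apply Subtype.ext; apply Units.ext
  show g.1.1 = 1
  rw [← (g.1.1).fromBlocks_toBlocks, h11, h12, h21, h22, Matrix.fromBlocks_one]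

variable [Finite F]

theorem quotHom_surjective : Function.Surjective (quotHom m F) := by
  intro A
  have : Fintype F := Fintype.ofFinite F
  obtain ⟨r, hr⟩ : ∃ r : (Fin m ⊕ Fin m) → F, ∀ j, r j ^ 2 =
      qp ((A : Matrix (Fin m ⊕ Fin m) (Fin m ⊕ Fin m) F) *ᵥ Pi.single j 1) +
        qp (Pi.single j (1 : F)) := by
    refine ⟨fun j => (frobeniusEquiv F 2).symm
      (qp ((A : Matrix (Fin m ⊕ Fin m) (Fin m ⊕ Fin m) F) *ᵥ Pi.single j 1) +
        qp (Pi.single j (1 : F))), fun j => ?_⟩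
    exact frobeniusEquiv_symm_pow_p F 2 _
  let R : Matrix Unit (Fin m ⊕ Fin m) F := Matrix.of fun _ j => r j
  let M := Matrix.fromBlocks (1 : Matrix Unit Unit F) R 0
    (A : Matrix (Fin m ⊕ Fin m) (Fin m ⊕ Fin m) F)
  have hdet : IsUnit M := by
    rw [Matrix.isUnit_iff_isUnit_det, Matrix.det_fromBlocks_zero₂₁, Matrix.det_one, one_mul,
      SymplecticGroup.det_eq_one A.2]
    exact isUnit_one
  let d : (Fin m ⊕ Fin m → F) →+ F :=
    AddMonoidHom.mk' (fun x => qp ((A : Matrix (Fin m ⊕ Fin m) (Fin m ⊕ Fin m) F) *ᵥ x) + qp x)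
      fun x y => by
        rw [Matrix.mulVec_add, qp_add, qp_add, mem_sp_iff.mp A.2 x y]
        linear_combination CharTwo.two_eq_zero (R := F) * (stdForm m F x y)
  have hd : ∀ x, d x = ∑ j, x j ^ 2 * r j ^ 2 := by
    intro x
    conv_lhs => rw [← Finset.univ_sum_single x]
    rw [map_sum]
    refine Finset.sum_congr rfl fun j _ => ?_
    rw [show Pi.single j (x j) = x j • (Pi.single j (1 : F) : Fin m ⊕ Fin m → F) by
      rw [← Pi.single_smul, smul_eq_mul, mul_one], hr]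
    simp only [d, AddMonoidHom.mk'_apply]
    rw [Matrix.mulVec_smul, qp_smul, qp_smul, mul_add]
  have hM : ∀ v, Cfsg.quadFormOdd m F (M *ᵥ v) = Cfsg.quadFormOdd m F v := by
    intro v
    obtain ⟨a, x, rfl⟩ : ∃ a x, v = Sum.elim a x := ⟨_, _, (Sum.elim_comp_inl_inr v).symm⟩
    rw [Matrix.fromBlocks_mulVec, Sum.elim_comp_inl, Sum.elim_comp_inr, quadFormOdd_elim,
      quadFormOdd_elim, Matrix.one_mulVec, Matrix.zero_mulVec, zero_add, Pi.add_apply,
      CharTwo.add_sq]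
    have h1 : (R *ᵥ x) () ^ 2 = d x := by
      rw [hd]
      show (∑ j, r j * x j) ^ 2 = _
      rw [CharTwo.sum_sq]
      exact Finset.sum_congr rfl fun j _ => by ring
    have h2 : d x = qp ((A : Matrix (Fin m ⊕ Fin m) (Fin m ⊕ Fin m) F) *ᵥ x) + qp x := rfl
    linear_combination h1 + h2 + CharTwo.two_eq_zero (R := F) *
      qp ((A : Matrix (Fin m ⊕ Fin m) (Fin m ⊕ Fin m) F) *ᵥ x)
  refine ⟨⟨hdet.unit, fun u _ => hM u⟩, Subtype.ext ?_⟩
  exact Matrix.toBlocks_fromBlocks₂₂ _ _ _ _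

/-- `O_{2m+1}(q) ≅ Sp_{2m}(q)` for even `q`. -/
theorem nonempty_mulEquiv (m : ℕ) (F : Type*) [Field F] [Finite F] [CharP F 2] :
    Nonempty (Cfsg.isometryGroup F (Cfsg.quadFormOdd m F) ≃* symplecticGroup (Fin m) F) :=
  ⟨MulEquiv.ofBijective (quotHom m F) ⟨quotHom_injective, quotHom_surjective⟩⟩

end Cfsg.Agent.Lib.Symplectic.OddOrthChar2
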